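import Cfsg.Agent.SEDim42.RankOneCase

/-!
Dimension bounds for a faithful module over the field with two elements of a group with a strongly
embedded subgroup, given the split rank one structure of the two-rank at least two case.
-/

set_option autoImplicit false

namespace Cfsg.Agent.SEDim42

open BenderCons37

universe u w

/-- The dimension bounds, from the split structure. -/
theorem main_of (hsp : BenderSplit.{u}) {G : Type u} [Group G] [Finite G] (H : Subgroup G)
    (hH : Cfsg.IsStronglyEmbedded H) (S : Sylow 2 G) {V : Type w} [AddCommGroup V]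
    [Module (ZMod 2) V] [Module.Finite (ZMod 2) V] (ρ : Representation (ZMod 2) G V)
    (hρ : Function.Injective ρ) :
    (∀ k : ℕ, Nat.card ↥(S : Subgroup G) = 2 ^ k → 2 * k ≤ Module.finrank (ZMod 2) V) ∧
    ∀ n : ℕ, (∀ z ∈ (S : Subgroup G) ⊓ Subgroup.centralizer ((S : Subgroup G) : Set G), z ^ 2 = 1) →
      Nat.card ↥((S : Subgroup G) ⊓ Subgroup.centralizer ((S : Subgroup G) : Set G)) = 2 ^ n →
      ∀ s ∈ (S : Subgroup G), s ≠ 1 →
        n ≤ Module.finrank (ZMod 2) ↥(LinearMap.range (ρ s - 1)) := by
  by_cases h2 : RankTwo G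
  · exact rankTwo_bounds hsp hH h2 S ρ hρ
  · exact rankOne_bounds hH h2 S ρ hρ

end Cfsg.Agent.SEDim42
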