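import Cfsg.Agent.Lib.NumberTheory.Zsigmondy
import Cfsg.Agent.Lib.LinearGroup.Card
import Mathlib

/-!
Primitive prime divisors of `2 ^ n - 1`, and elements of `SL(2, 2 ^ e)` as products of two
involutions.
-/

set_option autoImplicit false

namespace Cfsg.Agent.SEDim42

/-- A primitive prime divisor of `2 ^ n - 1`. -/
theorem exists_ppd {n : ℕ} (hn : 2 ≤ n) (h6 : n ≠ 6) :
    ∃ ℓ : ℕ, ℓ.Prime ∧ ℓ ≠ 2 ∧ ℓ ∣ 2 ^ n - 1 ∧ ∀ w, ℓ ∣ 2 ^ w - 1 → n ∣ w := by
  obtain ⟨ℓ, hℓ, hdvd, hprim⟩ :=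
    Cfsg.Agent.NumberTheory.exists_isPrimitivePrimeDivisor (a := 2) (n := n) (by omega) (by omega)
      (fun h => h6 h.2) (fun h => by
        obtain ⟨m, hm⟩ := h.2
        rcases m with _ | m
        · norm_num at hm
        · rw [pow_succ] at hm; omega)
  refine ⟨ℓ, hℓ, ?_, hdvd, fun w hw => ?_⟩
  · rintro rfl
    have h1 : 1 ≤ 2 ^ n := Nat.one_le_two_pow
    have h2 : 2 ∣ 2 ^ n := dvd_pow_self 2 (by omega)
    omega
  · rcases Nat.eq_zero_or_pos w with rfl | hw0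
    · simp
    have hg : ℓ ∣ 2 ^ Nat.gcd w n - 1 := by
      rw [← Nat.pow_sub_one_gcd_pow_sub_one]
      exact Nat.dvd_gcd hw hdvd
    have hle : Nat.gcd w n ≤ n := Nat.gcd_le_right _ (by omega)
    have hpos : 1 ≤ Nat.gcd w n := Nat.gcd_pos_of_pos_left _ hw0
    rcases hle.lt_or_eq with h | h
    · exact absurd hg (hprim _ hpos h)
    · exact h ▸ Nat.gcd_dvd_left w n

/-- If the exponent is twice `e`, the primitive prime divides `2 ^ e + 1`. -/
theorem exists_ppd_double {e : ℕ} (he : 1 ≤ e) (h3 : e ≠ 3) :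
    ∃ ℓ : ℕ, ℓ.Prime ∧ ℓ ≠ 2 ∧ ℓ ∣ 2 ^ e + 1 ∧ ¬ ℓ ∣ 2 ^ e - 1 ∧
      ∀ w, 0 < w → ℓ ∣ 2 ^ w - 1 → 2 * e ≤ w := by
  obtain ⟨ℓ, hℓ, h2, hdvd, hall⟩ := exists_ppd (n := 2 * e) (by omega) (by omega)
  have hnd : ¬ ℓ ∣ 2 ^ e - 1 := fun h => by
    have := Nat.le_of_dvd (by omega) (hall e h)
    omega
  refine ⟨ℓ, hℓ, h2, ?_, hnd, fun w hw h => Nat.le_of_dvd hw (hall w h)⟩
  have hfac : 2 ^ (2 * e) - 1 = (2 ^ e + 1) * (2 ^ e - 1) := by
    rw [← Nat.sq_sub_sq, one_pow, ← pow_mul, mul_comm e 2]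
  rw [hfac] at hdvd
  exact (hℓ.dvd_mul.mp hdvd).resolve_right hnd

open scoped MatrixGroups

variable {F : Type} [Field F] [CharP F 2]

theorem sq_one_of_trace_zero {A : SL(2, F)} (h : A.1 0 0 = A.1 1 1) : A * A = 1 := by
  have hd := A.2
  rw [Matrix.det_fin_two, CharTwo.sub_eq_add, ← h] at hd
  apply Subtype.ext
  rw [Matrix.SpecialLinearGroup.coe_mul, Matrix.SpecialLinearGroup.coe_one,
    Matrix.eta_fin_two (A : Matrix (Fin 2) (Fin 2) F), Matrix.mul_fin_two, ← h]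
  ext i j; fin_cases i <;> fin_cases j
  · simpa using hd
  · simp [mul_comm (A.1 0 1), CharTwo.add_self_eq_zero]
  · simp [mul_comm (A.1 1 0), CharTwo.add_self_eq_zero]
  · simpa [add_comm, mul_comm] using hd

/-- An element of `SL(2, q)`, `q` even, whose order is a prime dividing `q + 1` is a product of
two involutions. -/
theorem exists_two_involutions [Fintype F] {A : SL(2, F)} {ℓ : ℕ} (hℓ : ℓ.Prime) (h2 : ℓ ≠ 2)
    (hA : orderOf A = ℓ) (hq : ¬ ℓ ∣ Fintype.card F - 1) :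
    ∃ K J : SL(2, F), orderOf K = 2 ∧ orderOf J = 2 ∧ K * J = A := by
  haveI : Fact (Nat.Prime 2) := ⟨Nat.prime_two⟩
  have hA1 : A ≠ 1 := fun e => hℓ.one_lt.ne (hA ▸ (orderOf_eq_one_iff.2 e).symm)
  have hAA : A * A ≠ 1 := fun e => by
    have : orderOf A ∣ 2 := orderOf_dvd_of_pow_eq_one (by rw [pow_two, e])
    rw [hA] at this
    exact h2 ((Nat.prime_dvd_prime_iff_eq hℓ Nat.prime_two).1 this)
  have hc : A.1 1 0 ≠ 0 := by
    intro hc
    have hd := A.2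
    rw [Matrix.det_fin_two, hc, mul_zero, sub_zero] at hd
    have ha0 : A.1 0 0 ≠ 0 := fun e => by rw [e, zero_mul] at hd; exact zero_ne_one hd
    have key : ∀ n : ℕ, ((A ^ n).1) 1 0 = 0 ∧ ((A ^ n).1) 0 0 = A.1 0 0 ^ n := by
      intro n
      induction n with
      | zero => simp
      | succ n ih =>
        rw [pow_succ, pow_succ, Matrix.SpecialLinearGroup.coe_mul, Matrix.mul_apply, Matrix.mul_apply,
          Fin.sum_univ_two, Fin.sum_univ_two, ih.1, ih.2, hc, zero_mul, mul_zero, mul_zero,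
          add_zero, add_zero]
        exact ⟨rfl, rfl⟩
    set B := A ^ (Fintype.card F - 1) with hB
    obtain ⟨hB10, hB00⟩ := key (Fintype.card F - 1)
    rw [← hB] at hB10 hB00
    rw [FiniteField.pow_card_sub_one_eq_one _ ha0] at hB00
    have hB11 : B.1 1 1 = 1 := by
      have hdB := B.2
      rwa [Matrix.det_fin_two, hB10, hB00, one_mul, mul_zero, sub_zero] at hdB
    have hBB : B * B = 1 := sq_one_of_trace_zero (by rw [hB00, hB11])
    rw [hB, ← pow_add, ← two_mul] at hBB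
    have hdvd : ℓ ∣ 2 * (Fintype.card F - 1) := hA ▸ orderOf_dvd_of_pow_eq_one hBB
    rcases hℓ.dvd_mul.1 hdvd with h | h
    · exact h2 ((Nat.prime_dvd_prime_iff_eq hℓ Nat.prime_two).1 h)
    · exact hq h
  set y := (A.1 0 0 + A.1 1 1) / A.1 1 0 with hy
  set J : SL(2, F) := ⟨!![1, y; 0, 1], by simp [Matrix.det_fin_two]⟩ with hJ
  have hJJ : J * J = 1 := sq_one_of_trace_zero rfl
  have htr : A.1 0 0 ≠ A.1 1 1 := fun e => hAA (sq_one_of_trace_zero e)
  have hJ1 : J ≠ 1 := by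
    intro e
    have : y = 0 := by
      have h := congrArg (fun X : SL(2, F) => X.1 0 1) e
      simpa [hJ] using h
    rw [hy, div_eq_zero_iff, or_iff_left hc, CharTwo.add_eq_zero] at this
    exact htr this
  have hK : (A * J) * (A * J) = 1 := by
    refine sq_one_of_trace_zero ?_
    rw [Matrix.SpecialLinearGroup.coe_mul]
    simp only [hJ, Matrix.mul_apply, Fin.sum_univ_two, Matrix.of_apply, Matrix.cons_val',
      Matrix.cons_val_zero, Matrix.cons_val_one, Matrix.empty_val',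
      Matrix.cons_val_fin_one, mul_one, mul_zero, add_zero]
    rw [hy, mul_div_cancel₀ _ hc, add_assoc, CharTwo.add_self_eq_zero, add_zero]
  have hK1 : A * J ≠ 1 := fun e => hAA (by
    rw [mul_eq_one_iff_eq_inv.1 e, inv_eq_of_mul_eq_one_right hJJ, hJJ])
  exact ⟨A * J, J, orderOf_eq_prime (by rw [pow_two, hK]) hK1,
    orderOf_eq_prime (by rw [pow_two, hJJ]) hJ1, by rw [mul_assoc, hJJ, mul_one]⟩

end Cfsg.Agent.SEDim42
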