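import Mathlib

/-!
Simultaneous eigenspaces of families of endomorphisms, and of subgroups in a linear group over the
field with two elements after extension of scalars to an algebraic closure.
-/

set_option autoImplicit false

namespace Cfsg.Agent.SEDim42

open Module TensorProduct

section General

variable {ι : Type*} {K : Type*} [Field K] {W : Type*} [AddCommGroup W] [Module K W]

/-- The simultaneous eigenspace of the family `f` for the eigenvalues `c`. -/
def eig (f : ι → Module.End K W) (c : ι → K) : Submodule K W where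
  carrier := {w | ∀ i, f i w = c i • w}
  add_mem' {a b} ha hb i := by rw [map_add, ha i, hb i, smul_add]
  zero_mem' i := by rw [map_zero, smul_zero]
  smul_mem' k w hw i := by rw [map_smul, hw i, smul_comm]

theorem mem_eig {f : ι → Module.End K W} {c : ι → K} {w : W} :
    w ∈ eig f c ↔ ∀ i, f i w = c i • w := Iff.rfl

theorem eig_le_comap (f : ι → Module.End K W) (c : ι → K) (i : ι) :
    eig f c ≤ (eig f c).comap (f i) := by
  intro w hw
  rw [Submodule.mem_comap, hw i]
  exact Submodule.smul_mem _ _ hw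

theorem sup_eig_le_comap (f : ι → Module.End K W) (s : Finset (ι → K)) (i : ι) :
    s.sup (eig f) ≤ (s.sup (eig f)).comap (f i) :=
  Finset.sup_le fun c hc => (eig_le_comap f c i).trans (Submodule.comap_mono (Finset.le_sup hc))

theorem eq_zero_of_mem_sup_eig (f : ι → Module.End K W) :
    ∀ s : Finset (ι → K), ∀ c, c ∉ s → ∀ w ∈ eig f c, w ∈ s.sup (eig f) → w = 0 := by
  classical
  intro s
  induction s using Finset.induction_on with
  | empty =>
    intro c _ w _ hw
    simpa using hw
  | insert d s hd ih =>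
    intro c hc w hw hws
    rw [Finset.sup_insert, Submodule.mem_sup] at hws
    obtain ⟨u, hu, y, hy, rfl⟩ := hws
    rw [Finset.mem_insert, not_or] at hc
    obtain ⟨i, hi⟩ : ∃ i, c i ≠ d i := by
      by_contra h
      push_neg at h
      exact hc.1 (funext h)
    have e : (c i - d i) • (u + y) = f i y - d i • y := by
      rw [sub_smul, ← hw i, map_add, hu i, smul_add]
      abel
    have h0 : (c i - d i) • (u + y) = 0 := by
      refine ih c hc.2 _ (Submodule.smul_mem _ _ hw) ?_
      rw [e]
      exact sub_mem (sup_eig_le_comap f s i hy) (Submodule.smul_mem _ _ hy)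
    exact (smul_eq_zero.1 h0).resolve_left (sub_ne_zero.2 hi)

variable [FiniteDimensional K W]

theorem finrank_sup_eig (f : ι → Module.End K W) :
    ∀ s : Finset (ι → K), finrank K (s.sup (eig f) : Submodule K W) =
      ∑ c ∈ s, finrank K (eig f c) := by
  classical
  intro s
  induction s using Finset.induction_on with
  | empty => simp
  | insert d s hd ih =>
    rw [Finset.sup_insert, Finset.sum_insert hd, ← ih]
    have h := Submodule.finrank_sup_add_finrank_inf_eq (eig f d) (s.sup (eig f))
    have hbot : eig f d ⊓ s.sup (eig f) = ⊥ :=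
      (Submodule.eq_bot_iff _).2 fun w hw => eq_zero_of_mem_sup_eig f s d hd w hw.1 hw.2
    rwa [hbot, finrank_bot, add_zero] at h

/-- Eigenspaces for distinct eigenvalues are independent. -/
theorem sum_finrank_eig_le (f : ι → Module.End K W) {β : Type*} [Fintype β] {φ : β → ι → K}
    (hφ : Function.Injective φ) : ∑ b, finrank K (eig f (φ b)) ≤ finrank K W := by
  classical
  rw [← Finset.sum_image (f := fun c => finrank K (eig f c))
    (fun a _ b _ h => hφ h), ← finrank_sup_eig f]
  exact Submodule.finrank_le _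

theorem mul_card_le_finrank (f : ι → Module.End K W) {β : Type*} [Finite β] {φ : β → ι → K}
    (hφ : Function.Injective φ) {n : ℕ} (hn : ∀ b, n ≤ finrank K (eig f (φ b))) :
    Nat.card β * n ≤ finrank K W := by
  haveI := Fintype.ofFinite β
  refine le_trans ?_ (sum_finrank_eig_le f hφ)
  calc Nat.card β * n = ∑ _b : β, n := by simp [Nat.card_eq_fintype_card]
    _ ≤ _ := Finset.sum_le_sum fun b _ => hn b

/-- A commuting family has an eigenvector in every non-zero invariant subspace. -/
theorem exists_eigvec [IsAlgClosed K] (f : ι → Module.End K W)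
    (hcomm : ∀ i j, f i * f j = f j * f i) :
    ∀ (n : ℕ) (U : Submodule K W), finrank K U ≤ n → U ≠ ⊥ → (∀ i, ∀ w ∈ U, f i w ∈ U) →
      ∃ c : ι → K, ∃ w ∈ U, w ≠ 0 ∧ w ∈ eig f c := by
  intro n
  induction n with
  | zero =>
    intro U hU hne
    exact absurd (Submodule.finrank_eq_zero.1 (Nat.le_zero.1 hU)) hne
  | succ n ih =>
    intro U hU hne hinv
    by_cases h : ∀ i, ∃ μ : K, ∀ w ∈ U, f i w = μ • w
    · choose c hc using h
      obtain ⟨w, hw, hw0⟩ := (Submodule.ne_bot_iff U).1 hne
      exact ⟨c, w, hw, hw0, fun i => hc i w hw⟩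
    · push_neg at h
      obtain ⟨i, hi⟩ := h
      haveI : Nontrivial U := Submodule.nontrivial_iff_ne_bot.2 hne
      obtain ⟨μ, hμ⟩ := Module.End.exists_eigenvalue ((f i).restrict (hinv i))
      obtain ⟨x, hx⟩ := hμ.exists_hasEigenvector
      have hxi : f i x = μ • (x : W) := congrArg Subtype.val hx.apply_eq_smul
      let g : Module.End K W := f i - μ • 1
      have hg : ∀ w, g w = 0 ↔ f i w = μ • w := fun w => by
        simp [g, sub_eq_zero]
      have hne' : U ⊓ LinearMap.ker g ≠ ⊥ := (Submodule.ne_bot_iff _).2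
        ⟨x, ⟨x.2, LinearMap.mem_ker.2 ((hg _).2 hxi)⟩, fun e => hx.2 (Subtype.ext e)⟩
      have hlt : U ⊓ LinearMap.ker g < U := by
        refine lt_of_le_of_ne inf_le_left fun e => ?_
        obtain ⟨w, hw, hw'⟩ := hi μ
        rw [← e] at hw
        exact hw' ((hg w).1 (LinearMap.mem_ker.1 hw.2))
      have hlt' := Submodule.finrank_lt_finrank_of_lt hlt
      obtain ⟨c, w, hw, hw0, hwc⟩ := ih (U ⊓ LinearMap.ker g) (by omega) hne' fun j w hw => by
        refine ⟨hinv j w hw.1, LinearMap.mem_ker.2 ((hg _).2 ?_)⟩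
        have h1 := (hg w).1 (LinearMap.mem_ker.1 hw.2)
        have h2 := congrArg (fun T : Module.End K W => T w) (hcomm i j)
        simp only [Module.End.mul_apply] at h2
        rw [h2, h1, map_smul]
      exact ⟨c, w, hw.1, hw0, hwc⟩

/-- A semilinear injection with surjective twist does not lower the dimension. -/
theorem finrank_le_of_semilinear (F : W →+ W) (hF : Function.Injective F) (θ : K → K)
    (hθ : ∀ x, ∃ y, θ y = x) (hθ0 : ∀ {x}, θ x = 0 → x = 0)
    (hsmul : ∀ a w, F (a • w) = θ a • F w) {E E' : Submodule K W}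
    (hmap : ∀ w ∈ E, F w ∈ E') : finrank K E ≤ finrank K E' := by
  let b := Module.finBasis K E
  let v : Fin (finrank K E) → E' := fun i => ⟨F (b i : W), hmap _ (b i).2⟩
  have hv : LinearIndependent K v := by
    refine Fintype.linearIndependent_iff.2 fun a ha => ?_
    choose r hr using fun i => hθ (a i)
    have h0 : F (∑ i, r i • (b i : W)) = 0 := by
      have h' := congrArg Subtype.val ha
      simp only [Submodule.coe_sum, Submodule.coe_smul, ZeroMemClass.coe_zero] at h'
      rw [map_sum]
      simpa [hsmul, hr, v] using h'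
    have h1 : ∑ i, r i • (b i : W) = 0 := hF (by rw [h0, map_zero])
    have h2 : ∑ i, r i • b i = 0 := Subtype.ext (by simpa [Submodule.coe_sum] using h1)
    intro i
    have h3 := Fintype.linearIndependent_iff.1 b.linearIndependent r h2 i
    rw [← hr i, h3]
    obtain ⟨y, hy⟩ := hθ 0
    rw [hθ0 hy] at hy
    exact hy
  simpa using hv.fintype_card_le_finrank

/-- Conjugation on the span of the operators `σ (y b)` restricted to an invariant subspace `U`:
distinct eigencharacters give at most `(dim U) ^ 2` operators. -/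
theorem card_le_finrank_sq {Γ : Type*} [Group Γ] (σ : Γ →* Module.End K W) {U : Submodule K W}
    (hU : U ≠ ⊥) (hinv : ∀ g, ∀ w ∈ U, σ g w ∈ U) {β : Type*} [Finite β] (y : β → Γ)
    {φ : β → Γ → K} (hφ : Function.Injective φ)
    (heq : ∀ b g, ∀ w ∈ U, σ (g * y b * g⁻¹) w = φ b g • σ (y b) w) :
    Nat.card β ≤ finrank K U * finrank K U := by
  let τ : Γ → Module.End K U := fun g => (σ g).restrict (hinv g)
  let L : Γ → Module.End K (Module.End K U) := fun g =>
    (LinearMap.mulLeft K (τ g)).comp (LinearMap.mulRight K (τ g⁻¹))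
  have key := mul_card_le_finrank L hφ (n := 1) fun b => by
    refine Submodule.one_le_finrank_iff.2 ((Submodule.ne_bot_iff _).2 ⟨τ (y b), fun g => ?_, ?_⟩)
    · refine LinearMap.ext fun w => Subtype.ext ?_
      show σ g (σ (y b) (σ g⁻¹ w)) = φ b g • σ (y b) w
      rw [← heq b g w w.2, map_mul, map_mul]
      rfl
    · intro e
      obtain ⟨w, hw, hw0⟩ := (Submodule.ne_bot_iff U).1 hU
      refine hw0 ?_
      have h : σ (y b) w = 0 := congrArg Subtype.val (LinearMap.congr_fun e ⟨w, hw⟩)
      have h' := congrArg (σ (y b)⁻¹) h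
      rw [map_zero, ← Module.End.mul_apply, ← map_mul, inv_mul_cancel, map_one,
        Module.End.one_apply] at h'
      exact h'
  rwa [mul_one, Module.finrank_linearMap] at key

end General

section BaseChange

variable {G : Type*} [Group G] {V : Type*} [AddCommGroup V] [Module (ZMod 2) V]
  (ρ : Representation (ZMod 2) G V)

/-- An algebraic closure of the field with two elements. -/
abbrev KK : Type := AlgebraicClosure (ZMod 2)

instance : CharP KK 2 := charP_of_injective_algebraMap (algebraMap (ZMod 2) KK).injective 2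

/-- The extension of scalars of `ρ`. -/
noncomputable def bc : G →* Module.End KK (KK ⊗[ZMod 2] V) :=
  (Module.End.baseChangeHom (ZMod 2) KK V).toMonoidHom.comp ρ

theorem bc_tmul (g : G) (a : KK) (v : V) : bc ρ g (a ⊗ₜ[ZMod 2] v) = a ⊗ₜ[ZMod 2] ρ g v := rfl

theorem bc_injective (hρ : Function.Injective ρ) : Function.Injective (bc ρ) := fun _ _ h =>
  hρ (LinearMap.baseChangeHom_injective (R := ZMod 2) (S := KK) (M := V) (N := V) h)

theorem finrank_bc [Module.Finite (ZMod 2) V] :
    finrank KK (KK ⊗[ZMod 2] V) = finrank (ZMod 2) V :=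
  Module.finrank_baseChange

/-- The Frobenius automorphism acting on the first factor. -/
noncomputable def frob : (KK ⊗[ZMod 2] V) →ₗ[ZMod 2] (KK ⊗[ZMod 2] V) :=
  ((frobenius KK 2).toAddMonoidHom.toZModLinearMap 2).rTensor V

theorem frobenius_surjective_KK (x : KK) : ∃ y : KK, y ^ 2 = x :=
  IsAlgClosed.exists_pow_nat_eq x two_pos

theorem frob_tmul (a : KK) (v : V) :
    frob (V := V) (a ⊗ₜ[ZMod 2] v) = (a ^ 2) ⊗ₜ[ZMod 2] v := by
  simp [frob, frobenius_def]

theorem frob_smul (a : KK) (w : KK ⊗[ZMod 2] V) : frob (a • w) = a ^ 2 • frob w := by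
  induction w with
  | zero => simp
  | tmul b v => rw [smul_tmul', frob_tmul, frob_tmul, smul_tmul', smul_eq_mul, smul_eq_mul, mul_pow]
  | add x y hx hy => rw [smul_add, map_add, map_add, hx, hy, smul_add]

theorem frob_injective : Function.Injective (frob (V := V)) :=
  Module.Flat.rTensor_preserves_injective_linearMap _ (frobenius_inj KK 2)

theorem bc_frob (g : G) (w : KK ⊗[ZMod 2] V) : bc ρ g (frob w) = frob (bc ρ g w) := by
  induction w with
  | zero => simp
  | tmul b v => rw [frob_tmul, bc_tmul, bc_tmul, frob_tmul]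
  | add x y hx hy => rw [map_add, map_add, map_add, map_add, hx, hy]

open scoped Classical in
/-- The family of operators attached to a subgroup `A`. -/
noncomputable def fam (A : Subgroup G) (g : G) : Module.End KK (KK ⊗[ZMod 2] V) :=
  if g ∈ A then bc ρ g else 1

theorem fam_of_mem {A : Subgroup G} {g : G} (hg : g ∈ A) : fam ρ A g = bc ρ g := if_pos hg

theorem fam_of_notMem {A : Subgroup G} {g : G} (hg : g ∉ A) : fam ρ A g = 1 := if_neg hg

/-- The dimension of the eigenspace of `A` for `c`. -/
noncomputable abbrev edim (A : Subgroup G) (c : G → KK) : ℕ := finrank KK (eig (fam ρ A) c)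

variable {ρ} {A : Subgroup G} {c : G → KK}

theorem apply_of_mem_eig {w : KK ⊗[ZMod 2] V} (hw : w ∈ eig (fam ρ A) c) {g : G} (hg : g ∈ A) :
    bc ρ g w = c g • w := by
  rw [← fam_of_mem ρ hg]; exact hw g

theorem char_notMem (hne : eig (fam ρ A) c ≠ ⊥) {g : G} (hg : g ∉ A) : c g = 1 := by
  obtain ⟨w, hw, hw0⟩ := (Submodule.ne_bot_iff _).1 hne
  have h := hw g
  rw [fam_of_notMem ρ hg, Module.End.one_apply] at h
  exact smul_left_injective KK hw0 (show c g • w = (1 : KK) • w by rw [one_smul, ← h])

theorem char_one (hne : eig (fam ρ A) c ≠ ⊥) : c 1 = 1 := by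
  obtain ⟨w, hw, hw0⟩ := (Submodule.ne_bot_iff _).1 hne
  have h := apply_of_mem_eig hw (one_mem A)
  rw [map_one, Module.End.one_apply] at h
  exact smul_left_injective KK hw0 (show c 1 • w = (1 : KK) • w by rw [one_smul, ← h])

theorem char_mul (hne : eig (fam ρ A) c ≠ ⊥) {g h : G} (hg : g ∈ A) (hh : h ∈ A) :
    c (g * h) = c g * c h := by
  obtain ⟨w, hw, hw0⟩ := (Submodule.ne_bot_iff _).1 hne
  have e := apply_of_mem_eig hw (mul_mem hg hh)
  rw [map_mul, Module.End.mul_apply, apply_of_mem_eig hw hh, map_smul, apply_of_mem_eig hw hg,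
    smul_smul] at e
  exact smul_left_injective KK hw0 (show c (g * h) • w = (c g * c h) • w by
    rw [← e, mul_comm])

theorem char_inv (hne : eig (fam ρ A) c ≠ ⊥) {g : G} (hg : g ∈ A) : c g⁻¹ = (c g)⁻¹ := by
  refine eq_inv_of_mul_eq_one_left ?_
  rw [← char_mul hne (inv_mem hg) hg, inv_mul_cancel, char_one hne]

theorem eq_one_of_sq_KK {x : KK} (h : x ^ 2 = 1) : x = 1 :=
  frobenius_inj KK 2 (by rw [frobenius_def, frobenius_def, h, one_pow])

/-- An abelian subgroup of odd order has an eigencharacter not trivial on a given element. -/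
theorem exists_char [Finite G] [Module.Finite (ZMod 2) V] (hρ : Function.Injective ρ)
    (hab : ∀ x ∈ A, ∀ y ∈ A, x * y = y * x) {a : G} (ha : a ∈ A) (h1 : a ≠ 1)
    (hodd : Odd (orderOf a)) : ∃ c, eig (fam ρ A) c ≠ ⊥ ∧ c a ≠ 1 := by
  classical
  set T : Module.End KK (KK ⊗[ZMod 2] V) := bc ρ a - 1 with hT
  have hT0 : LinearMap.range T ≠ ⊥ := fun e => h1 (bc_injective ρ hρ (by
    rw [map_one]; exact sub_eq_zero.1 (LinearMap.range_eq_bot.1 e)))
  have hcomm : ∀ i j, fam ρ A i * fam ρ A j = fam ρ A j * fam ρ A i := by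
    intro i j
    by_cases hi : i ∈ A <;> by_cases hj : j ∈ A <;>
      simp [fam, hi, hj, ← map_mul]
    rw [hab i hi j hj]
  have hinv : ∀ i, ∀ w ∈ LinearMap.range T, fam ρ A i w ∈ LinearMap.range T := by
    rintro i _ ⟨u, rfl⟩
    refine ⟨fam ρ A i u, ?_⟩
    have h := congrArg (fun S : Module.End KK (KK ⊗[ZMod 2] V) => S u) (hcomm a i)
    rw [fam_of_mem ρ ha] at h
    simp only [Module.End.mul_apply] at h
    simp only [hT, LinearMap.sub_apply, Module.End.one_apply, map_sub, h]
  obtain ⟨c, w, ⟨u, hu⟩, hw0, hwc⟩ :=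
    exists_eigvec (fam ρ A) hcomm _ (LinearMap.range T) le_rfl hT0 hinv
  refine ⟨c, (Submodule.ne_bot_iff _).2 ⟨w, hwc, hw0⟩, fun hca => hw0 ?_⟩
  have hfix : bc ρ a w = w := by rw [apply_of_mem_eig hwc ha, hca, one_smul]
  have hd : bc ρ a u = u + w := by
    rw [← hu, hT, LinearMap.sub_apply, Module.End.one_apply]; abel
  have key : ∀ i : ℕ, bc ρ (a ^ i) u = u + (i : KK) • w := by
    intro i
    induction i with
    | zero => simp
    | succ i ih =>
      rw [pow_succ', map_mul, Module.End.mul_apply, ih, map_add, map_smul, hfix, hd, Nat.cast_succ,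
        add_smul, one_smul]
      abel
  have h := key (orderOf a)
  rw [pow_orderOf_eq_one, map_one, Module.End.one_apply, left_eq_add, smul_eq_zero] at h
  refine h.resolve_left ?_
  rw [CharP.cast_eq_zero_iff KK 2]
  exact fun hd => Nat.not_even_iff_odd.2 hodd (even_iff_two_dvd.2 hd)

/-- The character conjugated by `s`. -/
def chConj (s : G) (c : G → KK) : G → KK := fun g => c (s⁻¹ * g * s)

/-- The square of a character. -/
noncomputable def chSq (c : G → KK) : G → KK := fun g => c g ^ 2

theorem edim_le_chConj [Module.Finite (ZMod 2) V] {s : G}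
    (hs : ∀ g, g ∈ A ↔ s⁻¹ * g * s ∈ A) (c : G → KK) :
    edim ρ A c ≤ edim ρ A (chConj s c) := by
  have hmap : ∀ w ∈ eig (fam ρ A) c, bc ρ s w ∈ eig (fam ρ A) (chConj s c) := by
    intro w hw g
    by_cases hg : g ∈ A
    · rw [fam_of_mem ρ hg, ← Module.End.mul_apply, ← map_mul,
        show g * s = s * (s⁻¹ * g * s) by group, map_mul, Module.End.mul_apply,
        apply_of_mem_eig hw ((hs g).1 hg), map_smul]
      rfl
    · have h := hw (s⁻¹ * g * s)
      rw [fam_of_notMem ρ (fun h => hg ((hs g).2 h))] at h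
      rw [fam_of_notMem ρ hg, Module.End.one_apply]
      show _ = c (s⁻¹ * g * s) • _
      rw [← map_smul, ← h, Module.End.one_apply]
  refine LinearMap.finrank_le_finrank_of_injective (f := (bc ρ s).restrict hmap) ?_
  intro x y h
  apply Subtype.ext
  have h' := congrArg (bc ρ s⁻¹) (congrArg Subtype.val h)
  simpa [← Module.End.mul_apply, ← map_mul] using h'

theorem edim_le_chSq [Module.Finite (ZMod 2) V] (c : G → KK) :
    edim ρ A c ≤ edim ρ A (chSq c) := by
  set E := eig (fam ρ A) c
  have hmap : ∀ w ∈ E, frob w ∈ eig (fam ρ A) (chSq c) := by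
    intro w hw g
    by_cases hg : g ∈ A
    · rw [fam_of_mem ρ hg, bc_frob, apply_of_mem_eig hw hg, frob_smul]
      rfl
    · have h := hw g
      rw [fam_of_notMem ρ hg, Module.End.one_apply] at h
      rw [fam_of_notMem ρ hg, Module.End.one_apply]
      show _ = c g ^ 2 • _
      rw [← frob_smul, ← h]
  exact finrank_le_of_semilinear (frob (V := V)).toAddMonoidHom frob_injective (fun a => a ^ 2)
    frobenius_surjective_KK (fun h => (pow_eq_zero_iff two_ne_zero).1 h) frob_smul hmap

end BaseChange

end Cfsg.Agent.SEDim42
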