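import Cfsg.Agent.Spectra36.Tools
import Mathlib

/-!
The dimension of `[V, g]` for a linear group over the field with two elements: behaviour under
products, powers and conjugation, divisibility for elements of odd prime order, and evenness for
elements inverted by an involution.
-/

set_option autoImplicit false

namespace Cfsg.Agent.SEDim42

open Module LinearMap

variable {G : Type*} [Group G] {V : Type*} [AddCommGroup V] [Module (ZMod 2) V]
  (ρ : Representation (ZMod 2) G V)

/-- `[V, g]`, the image of `ρ g - 1`. -/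
noncomputable abbrev comm (g : G) : Submodule (ZMod 2) V := LinearMap.range (ρ g - 1)

/-- The dimension of `[V, g]`. -/
noncomputable abbrev rk (g : G) : ℕ := finrank (ZMod 2) (comm ρ g)

theorem rho_mul_apply (g h : G) (v : V) : ρ (g * h) v = ρ g (ρ h v) := by
  rw [map_mul]; rfl

theorem rho_one_apply (v : V) : ρ 1 v = v := by
  rw [map_one]; rfl

theorem mem_comm {g : G} {v : V} : v ∈ comm ρ g ↔ ∃ u, ρ g u - u = v := by
  simp [LinearMap.mem_range]

theorem sub_mem_comm (g : G) (v : V) : ρ g v - v ∈ comm ρ g := (mem_comm ρ).2 ⟨v, rfl⟩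

theorem rho_mem_comm {g h : G} (hc : h * g = g * h) {v : V} (hv : v ∈ comm ρ g) :
    ρ h v ∈ comm ρ g := by
  obtain ⟨u, rfl⟩ := (mem_comm ρ).1 hv
  refine (mem_comm ρ).2 ⟨ρ h u, ?_⟩
  rw [map_sub, ← rho_mul_apply, ← rho_mul_apply, hc]

theorem comm_mul_le (g h : G) :
    comm ρ (g * h) ≤ (comm ρ h).map (ρ g) ⊔ comm ρ g := by
  intro v hv
  obtain ⟨u, rfl⟩ := (mem_comm ρ).1 hv
  have e : ρ (g * h) u - u = ρ g (ρ h u - u) + (ρ g u - u) := by
    rw [map_sub, rho_mul_apply]; abel
  rw [e]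
  exact add_mem (Submodule.mem_sup_left (Submodule.mem_map_of_mem (sub_mem_comm ρ h u)))
    (Submodule.mem_sup_right (sub_mem_comm ρ g u))

theorem comm_pow_le (g : G) (n : ℕ) : comm ρ (g ^ n) ≤ comm ρ g := by
  induction n with
  | zero =>
    intro v hv
    obtain ⟨u, rfl⟩ := (mem_comm ρ).1 hv
    rw [pow_zero, rho_one_apply, sub_self]
    exact zero_mem _
  | succ n ih =>
    intro v hv
    obtain ⟨u, rfl⟩ := (mem_comm ρ).1 hv
    have e : ρ (g ^ (n + 1)) u - u = ρ g (ρ (g ^ n) u - u) + (ρ g u - u) := by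
      rw [map_sub, pow_succ', rho_mul_apply]; abel
    rw [e]
    exact add_mem (rho_mem_comm ρ rfl (ih (sub_mem_comm ρ _ u))) (sub_mem_comm ρ g u)

variable [Module.Finite (ZMod 2) V]

theorem rk_pow_le (g : G) (n : ℕ) : rk ρ (g ^ n) ≤ rk ρ g :=
  Submodule.finrank_mono (comm_pow_le ρ g n)

theorem rk_mul_le (g h : G) : rk ρ (g * h) ≤ rk ρ g + rk ρ h := by
  refine le_trans (Submodule.finrank_mono (comm_mul_le ρ g h)) ?_
  refine le_trans (Submodule.finrank_add_le_finrank_add_finrank _ _) ?_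
  rw [add_comm]
  exact Nat.add_le_add_left (Submodule.finrank_map_le _ _) _

theorem rk_conj_le (a g : G) : rk ρ (a * g * a⁻¹) ≤ rk ρ g := by
  refine le_trans (Submodule.finrank_mono ?_) (Submodule.finrank_map_le (ρ a) (comm ρ g))
  intro v hv
  obtain ⟨u, rfl⟩ := (mem_comm ρ).1 hv
  refine ⟨ρ g (ρ a⁻¹ u) - ρ a⁻¹ u, sub_mem_comm ρ g _, ?_⟩
  rw [map_sub, rho_mul_apply, rho_mul_apply, ← rho_mul_apply ρ a a⁻¹, mul_inv_cancel, rho_one_apply]

theorem rk_eq_of_isConj {g h : G} (e : IsConj g h) : rk ρ g = rk ρ h := by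
  obtain ⟨a, rfl⟩ := isConj_iff.1 e
  refine le_antisymm ?_ (rk_conj_le ρ a g)
  have := rk_conj_le ρ a⁻¹ (a * g * a⁻¹)
  rwa [show a⁻¹ * (a * g * a⁻¹) * a⁻¹⁻¹ = g by group] at this

omit [Module.Finite (ZMod 2) V] in
theorem add_self_zero (v : V) : v + v = 0 := by
  rw [← two_smul (ZMod 2) v, show (2 : ZMod 2) = 0 by decide, zero_smul]

omit [Module.Finite (ZMod 2) V] in
theorem nsmul_odd {n : ℕ} (hn : Odd n) (v : V) : n • v = v := by
  obtain ⟨k, rfl⟩ := hn
  rw [add_nsmul, one_nsmul, mul_nsmul, two_nsmul, add_self_zero, nsmul_zero, zero_add]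

omit [Module.Finite (ZMod 2) V] in
/-- An element of odd order fixes only `0` in `[V, g]`. -/
theorem fixed_eq_zero {g : G} (hg : Odd (orderOf g)) {v : V} (hv : v ∈ comm ρ g)
    (hf : ρ g v = v) : v = 0 := by
  obtain ⟨u, rfl⟩ := (mem_comm ρ).1 hv
  set d := ρ g u - u with hd
  have key : ∀ i : ℕ, ρ (g ^ i) u = u + i • d := by
    intro i
    induction i with
    | zero => rw [pow_zero, rho_one_apply, zero_nsmul, add_zero]
    | succ i ih =>
      rw [pow_succ', rho_mul_apply, ih, map_add, map_nsmul, hf, add_nsmul, one_nsmul, hd]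
      abel
  have h := key (orderOf g)
  rw [pow_orderOf_eq_one, rho_one_apply, nsmul_odd hg] at h
  simpa using h

theorem rk_pos {g : G} (h : ρ g ≠ 1) : 0 < rk ρ g := by
  rw [rk, pos_iff_ne_zero, Ne, Submodule.finrank_eq_zero, LinearMap.range_eq_bot, sub_eq_zero]
  exact h

theorem rk_le_finrank (g : G) : rk ρ g ≤ finrank (ZMod 2) V := Submodule.finrank_le _

/-- For an element of odd prime order `ℓ`, `ℓ` divides `2 ^ dim [V, g] - 1`. -/
theorem prime_dvd_pow_rk {g : G} {ℓ : ℕ} (hℓ : ℓ.Prime) (hodd : ℓ ≠ 2) (hg : orderOf g = ℓ) :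
    ℓ ∣ 2 ^ rk ρ g - 1 := by
  haveI : Fact ℓ.Prime := ⟨hℓ⟩
  haveI : _root_.Finite V := Module.finite_of_finite (ZMod 2)
  let f : comm ρ g →+ comm ρ g :=
    { toFun := fun x => ⟨ρ g x, rho_mem_comm ρ rfl x.2⟩
      map_zero' := Subtype.ext (map_zero _)
      map_add' := fun x y => Subtype.ext (map_add _ _ _) }
  have hcard : Nat.card (comm ρ g) = 2 ^ rk ρ g := by
    rw [Module.natCard_eq_pow_finrank (K := ZMod 2), Nat.card_zmod]
  rw [← hcard]
  have hit : ∀ (i : ℕ) (x : comm ρ g), (((⇑f)^[i] x : comm ρ g) : V) = ρ (g ^ i) x := by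
    intro i
    induction i with
    | zero => intro x; rw [pow_zero, rho_one_apply]; rfl
    | succ i ih =>
      intro x
      rw [Function.iterate_succ_apply', pow_succ', rho_mul_apply, ← ih]
      rfl
  refine Spectra36.dvd_card_sub_one f (fun x => Subtype.ext ?_) fun x hx => Subtype.ext ?_
  · rw [hit, ← hg, pow_orderOf_eq_one, rho_one_apply]
  · exact fixed_eq_zero ρ (hg ▸ hℓ.odd_of_ne_two hodd) x.2 (congrArg Subtype.val hx)

/-- If an involution inverts an element of odd order, `[V, g]` has even dimension. -/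
theorem even_rk_of_inverted {g u : G} (hg : Odd (orderOf g)) (hu : u * u = 1)
    (hinv : u * g * u = g⁻¹) : Even (rk ρ g) := by
  set W := comm ρ g with hW
  have hui : ∀ v, ρ u (ρ u v) = v := fun v => by rw [← rho_mul_apply, hu, rho_one_apply]
  have huW : ∀ v ∈ W, ρ u v ∈ W := by
    intro v hv
    obtain ⟨w, rfl⟩ := (mem_comm ρ).1 hv
    have e : u * g = g⁻¹ * u := by
      rw [← hinv]
      calc u * g = u * g * (u * u) := by rw [hu, mul_one]
        _ = u * g * u * u := by group
    refine (mem_comm ρ).2 ⟨ρ g⁻¹ (ρ u w), ?_⟩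
    have e' : ρ u (ρ g w) = ρ g⁻¹ (ρ u w) := by rw [← rho_mul_apply, e, rho_mul_apply]
    rw [map_sub, e', ← rho_mul_apply ρ g g⁻¹, mul_inv_cancel, rho_one_apply]
    have key : ∀ a b : V, a - b = b - a := fun a b => by
      rw [sub_eq_sub_iff_add_eq_add, add_self_zero, add_self_zero]
    exact key _ _
  set U : W →ₗ[ZMod 2] W := (ρ u).restrict huW with hU
  set T : W →ₗ[ZMod 2] W := (ρ g).restrict (fun v hv => rho_mem_comm ρ rfl hv) with hT
  set D : W →ₗ[ZMod 2] W := U + LinearMap.id with hD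
  have hfix : ∀ x : W, x ∈ LinearMap.ker D ↔ ρ u x = x := by
    intro x
    rw [LinearMap.mem_ker, hD, LinearMap.add_apply, LinearMap.id_apply, Subtype.ext_iff]
    show ρ u x + x = 0 ↔ _
    constructor
    · intro h
      rw [← add_zero (ρ u x), ← add_self_zero (x : V), ← add_assoc, h, zero_add]
    · intro h
      rw [h, add_self_zero]
  have hr : finrank (ZMod 2) (LinearMap.range D) ≤ finrank (ZMod 2) (LinearMap.ker D) := by
    refine Submodule.finrank_mono ?_
    rintro _ ⟨x, rfl⟩
    rw [hfix, hD, LinearMap.add_apply, LinearMap.id_apply, Submodule.coe_add]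
    show ρ u (ρ u x + x) = ρ u x + x
    rw [map_add, hui, add_comm]
  have hTi : Function.Injective T := by
    intro x y h
    have h' : ρ g x = ρ g y := congrArg Subtype.val h
    have := congrArg (ρ g⁻¹) h'
    rw [← rho_mul_apply, ← rho_mul_apply, inv_mul_cancel, rho_one_apply, rho_one_apply] at this
    exact Subtype.ext this
  have hdisj : LinearMap.ker D ⊓ (LinearMap.ker D).map T = ⊥ := by
    rw [eq_bot_iff]
    rintro x ⟨hx, y, hy, rfl⟩
    rw [SetLike.mem_coe, hfix] at hx hy
    have hx' : ρ u (ρ g y) = ρ g (y : V) := hx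
    have e : u * g = g⁻¹ * u := by
      rw [← hinv]
      calc u * g = u * g * (u * u) := by rw [hu, mul_one]
        _ = u * g * u * u := by group
    rw [← rho_mul_apply, e, rho_mul_apply, hy] at hx'
    have h2 : ρ (g ^ 2) (y : V) = y := by
      rw [pow_two, rho_mul_apply, ← hx', ← rho_mul_apply, mul_inv_cancel, rho_one_apply]
    have h1 : ρ g (y : V) = y := by
      obtain ⟨k, hk⟩ := hg
      have hp : ∀ i, ρ ((g ^ 2) ^ i) (y : V) = y := by
        intro i
        induction i with
        | zero => rw [pow_zero, rho_one_apply]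
        | succ i ih => rw [pow_succ', rho_mul_apply, ih, h2]
      have := hp (k + 1)
      rwa [← pow_mul, show 2 * (k + 1) = orderOf g + 1 by omega, pow_succ, pow_orderOf_eq_one,
        one_mul] at this
    rw [Submodule.mem_bot]
    have hy0 : (y : V) = 0 := fixed_eq_zero ρ hg y.2 h1
    rw [show y = 0 from Subtype.ext hy0, map_zero]
  have h1 := D.finrank_range_add_finrank_ker
  have h2 := Submodule.finrank_sup_add_finrank_inf_eq (LinearMap.ker D) ((LinearMap.ker D).map T)
  rw [hdisj, finrank_bot,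
    (Submodule.equivMapOfInjective T hTi (LinearMap.ker D)).finrank_eq.symm] at h2
  have h3 := Submodule.finrank_le (LinearMap.ker D ⊔ (LinearMap.ker D).map T)
  exact ⟨finrank (ZMod 2) (LinearMap.ker D), by
    show finrank (ZMod 2) W = _
    omega⟩

end Cfsg.Agent.SEDim42
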