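import Mathlib

/-!
An involution `z`, central in a 2-group `S`, acting non-trivially on an `S`-invariant `r`-subgroup
(`r` odd): existence and properties of a minimal such subgroup.
-/

set_option autoImplicit false

namespace Cfsg.Agent.SEDim42

open Subgroup
open scoped commutatorElement

variable {G : Type*} [Group G]

/-- Invariance of `R` under conjugation by the elements of `S`. -/
def Inv (S R : Subgroup G) : Prop := ∀ s ∈ S, ∀ x ∈ R, s * x * s⁻¹ ∈ R

/-- A minimal `S`-invariant `r`-subgroup not centralised by `z`, with its main properties. -/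
structure MinAct (S R : Subgroup G) (z : G) : Prop where
  inv : Inv S R
  zmem : z ∈ S
  central : ∀ s ∈ S, s * z = z * s
  sq : z * z = 1
  odd : Odd (Nat.card R)
  nc : ∃ x ∈ R, z * x ≠ x * z
  gen : Subgroup.closure {c : G | ∃ x ∈ R, x⁻¹ * z * x * z = c} = R
  comm_mem : ∀ x ∈ R, ∀ y ∈ R, z * ⁅x, y⁆ = ⁅x, y⁆ * z

theorem eq_one_of_sq_eq_one [Finite G] {R : Subgroup G} (hR : Odd (Nat.card R)) {x : G}
    (hx : x ∈ R) (h : x * x = 1) : x = 1 := by
  have h1 : orderOf x ∣ 2 := orderOf_dvd_of_pow_eq_one (by rw [pow_two, h])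
  have h2 : orderOf x ∣ Nat.card R := Subgroup.orderOf_dvd_natCard R hx
  exact orderOf_eq_one_iff.1 (Nat.eq_one_of_dvd_coprimes (Nat.coprime_two_left.2 hR) h1 h2)

/-- Existence of a minimal action. -/
theorem exists_minAct [Finite G] {S R₀ : Subgroup G} {z : G} {r : ℕ} (hr : r.Prime) (hr2 : r ≠ 2)
    (hzS : z ∈ S) (hzc : ∀ s ∈ S, s * z = z * s) (hz : z * z = 1) (hR₀ : IsPGroup r R₀)
    (hinv : Inv S R₀) (hnc : ∃ x ∈ R₀, z * x ≠ x * z) :
    ∃ R : Subgroup G, MinAct S R z := by
  classical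
  haveI : Fact r.Prime := ⟨hr⟩
  obtain ⟨R, ⟨hRR, hi, hn⟩, hmin⟩ : ∃ R : Subgroup G,
      (R ≤ R₀ ∧ Inv S R ∧ ∃ x ∈ R, z * x ≠ x * z) ∧
      ∀ P : Subgroup G, (P ≤ R₀ ∧ Inv S P ∧ ∃ x ∈ P, z * x ≠ x * z) → Nat.card R ≤ Nat.card P := by
    obtain ⟨R, hR, hmin⟩ := Finset.exists_min_image
      ((Set.toFinite {P : Subgroup G | P ≤ R₀ ∧ Inv S P ∧ ∃ x ∈ P, z * x ≠ x * z}).toFinset)
      (fun P => Nat.card P) ⟨R₀, Set.Finite.mem_toFinset _ |>.2 ⟨le_refl R₀, hinv, hnc⟩⟩
    have hR' := (Set.Finite.mem_toFinset _).1 hR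
    exact ⟨R, hR', fun P hP => hmin P ((Set.Finite.mem_toFinset _).2 hP)⟩
  have hproper : ∀ P : Subgroup G, P < R → Inv S P → ∀ x ∈ P, z * x = x * z := by
    intro P hP hPi x hx
    by_contra hne
    exact absurd (hmin P ⟨hP.le.trans hRR, hPi, x, hx, hne⟩) (not_le.2
      (lt_of_le_of_ne (Subgroup.card_le_of_le hP.le) fun e => hP.ne
        (Subgroup.eq_of_le_of_card_ge hP.le e.ge)))
  have hRp : IsPGroup r R := hR₀.to_le hRR
  have hodd : Odd (Nat.card R) := by
    obtain ⟨m, hm⟩ := IsPGroup.iff_card.1 hRp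
    rw [hm]
    exact (hr.odd_of_ne_two hr2).pow
  have hzz : z⁻¹ = z := inv_eq_of_mul_eq_one_right hz
  have hzR : ∀ x ∈ R, z * x * z ∈ R := fun x hx => by
    simpa [hzz] using hi z hzS x hx
  set gens := {c : G | ∃ x ∈ R, x⁻¹ * z * x * z = c} with hgens
  have hle : Subgroup.closure gens ≤ R := (closure_le _).2 (by
    rintro c ⟨x, hx, rfl⟩
    rw [show x⁻¹ * z * x * z = x⁻¹ * (z * x * z) by group]
    exact mul_mem (inv_mem hx) (hzR x hx))
  have hgi : Inv S (Subgroup.closure gens) := by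
    intro s hs x hx
    have : Subgroup.closure gens ≤ (Subgroup.closure gens).comap (MulAut.conj s).toMonoidHom := by
      refine (closure_le _).2 ?_
      rintro c ⟨y, hy, rfl⟩
      refine subset_closure ⟨s * y * s⁻¹, hi s hs y hy, ?_⟩
      have h1 : s⁻¹ * z * s = z := by rw [mul_assoc, ← hzc s hs, inv_mul_cancel_left]
      simp only [MulEquiv.coe_toMonoidHom, MulAut.conj_apply]
      calc (s * y * s⁻¹)⁻¹ * z * (s * y * s⁻¹) * z
          = s * y⁻¹ * (s⁻¹ * z * s) * y * s⁻¹ * z := by group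
        _ = s * y⁻¹ * z * y * (s⁻¹ * z) := by rw [h1]; group
        _ = s * y⁻¹ * z * y * (z * s⁻¹) := by
          rw [show s⁻¹ * z = z * s⁻¹ from by
            rw [inv_mul_eq_iff_eq_mul, ← mul_assoc, hzc s hs, mul_inv_cancel_right]]
        _ = s * (y⁻¹ * z * y * z) * s⁻¹ := by group
    exact this hx
  have hgen : Subgroup.closure gens = R := by
    rcases hle.lt_or_eq with hlt | heq
    · exfalso
      obtain ⟨x, hx, hne⟩ := hn
      have hc := hproper _ hlt hgi _ (subset_closure ⟨x, hx, rfl⟩)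
      set c := x⁻¹ * z * x * z with hcd
      have hcc : z * c * z = c⁻¹ := by
        rw [hcd, mul_inv_rev, mul_inv_rev, mul_inv_rev, hzz, inv_inv]
        calc z * (x⁻¹ * z * x * z) * z = z * x⁻¹ * z * x * (z * z) := by group
          _ = z * (x⁻¹ * (z * x)) := by rw [hz]; group
      have hc1 : c * c = 1 := by
        have : z * c * z = c := by rw [hc, mul_assoc, hz, mul_one]
        rw [this] at hcc
        exact mul_eq_one_iff_eq_inv.2 hcc
      have hc0 := eq_one_of_sq_eq_one hodd (hle (subset_closure ⟨x, hx, hcd.symm⟩)) hc1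
      refine hne ?_
      rw [hcd] at hc0
      calc z * x = x * (x⁻¹ * z * x * z) * z⁻¹ := by group
        _ = x * z := by rw [hc0, hzz, mul_one]
    · exact heq
  have hD : Inv S ⁅R, R⁆ := by
    intro s hs x hx
    have : ⁅R, R⁆ ≤ (⁅R, R⁆).comap (MulAut.conj s).toMonoidHom := by
      refine Subgroup.commutator_le.2 fun p hp q hq => ?_
      show (MulAut.conj s).toMonoidHom ⁅p, q⁆ ∈ ⁅R, R⁆
      rw [map_commutatorElement]
      exact Subgroup.commutator_mem_commutator (hi s hs p hp) (hi s hs q hq)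
    exact this hx
  have hDlt : ⁅R, R⁆ < R := by
    refine lt_of_le_of_ne ?_ fun e => ?_
    · exact Subgroup.commutator_le.2 fun p hp q hq => by
        rw [commutatorElement_def]
        exact mul_mem (mul_mem (mul_mem hp hq) (inv_mem hp)) (inv_mem hq)
    · haveI : Group.IsNilpotent R := hRp.isNilpotent
      haveI : Group.IsSolvable R := inferInstance
      obtain ⟨n, hn'⟩ := (Group.isSolvable_def R).1 inferInstance
      have hall : ∀ n, derivedSeries R n = ⊤ := by
        intro n
        induction n with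
        | zero => exact derivedSeries_zero R
        | succ n ih =>
          rw [derivedSeries_succ, ih]
          apply Subgroup.map_injective R.subtype_injective
          rw [Subgroup.map_commutator, ← MonoidHom.range_eq_map, Subgroup.range_subtype, e]
      obtain ⟨x, hx, hne⟩ := hn
      have hx1 : (⟨x, hx⟩ : R) = 1 := by
        have := hall n
        rw [hn'] at this
        exact Subgroup.mem_bot.1 (this ▸ Subgroup.mem_top (⟨x, hx⟩ : R))
      exact hne (by rw [show x = 1 from congrArg Subtype.val hx1, mul_one, one_mul])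
  exact ⟨R, hi, hzS, hzc, hz, hodd, hn, hgen,
    fun x hx y hy => hproper _ hDlt hD _ (Subgroup.commutator_mem_commutator hx hy)⟩

namespace MinAct

variable [Finite G] {S R : Subgroup G} {z : G}

omit [Finite G] in
theorem zz (h : MinAct S R z) : z⁻¹ = z := inv_eq_of_mul_eq_one_right h.sq

omit [Finite G] in
theorem zconj_mem (h : MinAct S R z) {x : G} (hx : x ∈ R) : z * x * z ∈ R := by
  simpa [h.zz] using h.inv z h.zmem x hx

omit [Finite G] in
/-- The elements of `R` centralised by `z` are central in `R`. -/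
theorem fixed_central (h : MinAct S R z) {c : G} (hc : c ∈ R) (hcz : z * c = c * z) {y : G}
    (hy : y ∈ R) : y * c = c * y := by
  have : R ≤ Subgroup.centralizer ({c} : Set G) := by
    conv_lhs => rw [← h.gen]
    refine (closure_le _).2 ?_
    rintro _ ⟨x, hx, rfl⟩
    rw [SetLike.mem_coe, mem_centralizer_singleton_iff]
    have hk := h.comm_mem x hx c hc
    rw [commutatorElement_def] at hk
    have hcz' : z * c⁻¹ = c⁻¹ * z := by
      rw [eq_inv_mul_iff_mul_eq, ← mul_assoc, ← hcz, mul_inv_cancel_right]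
    have e1 : (z * x * z) * c * (z * x * z)⁻¹ * c⁻¹ = x * c * x⁻¹ * c⁻¹ := by
      rw [mul_inv_rev, mul_inv_rev, h.zz]
      calc z * x * z * c * (z * (x⁻¹ * z)) * c⁻¹ = z * x * (z * c) * z * x⁻¹ * (z * c⁻¹) := by group
        _ = z * x * c * (z * z) * x⁻¹ * (c⁻¹ * z) := by rw [hcz, hcz']; group
        _ = z * (x * c * x⁻¹ * c⁻¹) * z := by rw [h.sq]; group
        _ = x * c * x⁻¹ * c⁻¹ := by rw [hk, mul_assoc, h.sq, mul_one]
    have e2 : (z * x * z) * c * (z * x * z)⁻¹ = x * c * x⁻¹ := mul_right_cancel e1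
    calc x⁻¹ * z * x * z * c = x⁻¹ * ((z * x * z) * c * (z * x * z)⁻¹) * (z * x * z) := by group
      _ = x⁻¹ * (x * c * x⁻¹) * (z * x * z) := by rw [e2]
      _ = c * (x⁻¹ * z * x * z) := by group
  exact mem_centralizer_singleton_iff.1 (this hy)

/-- Modulo the centralised elements `z` inverts `R`. -/
theorem fixed_mul (h : MinAct S R z) {x : G} (hx : x ∈ R) :
    z * (z * x * z * x) = (z * x * z * x) * z := by
  set d := z * x * z * x with hd
  have hdR : d ∈ R := mul_mem (h.zconj_mem hx) hx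
  have hc0 : z * d * z * d⁻¹ = ⁅x, d⁆ := by
    rw [commutatorElement_def]
    have : z * d * z = x * d * x⁻¹ := by
      rw [hd]
      calc z * (z * x * z * x) * z = (z * z) * x * z * x * z := by group
        _ = x * (z * x * z * x) * x⁻¹ := by rw [h.sq]; group
    rw [this]
  have hfix : z * (z * d * z * d⁻¹) = (z * d * z * d⁻¹) * z := by
    rw [hc0]; exact h.comm_mem x hx d hdR
  set c := z * d * z * d⁻¹ with hcd
  have hcR : c ∈ R := mul_mem (h.zconj_mem hdR) (inv_mem hdR)
  have hcomm : c * d = d * c := (h.fixed_central hcR hfix hdR).symm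
  have hzd : z * d * z = c * d := by rw [hcd, inv_mul_cancel_right]
  have h2 : c * c = 1 := by
    have e : d = z * (c * d) * z := by
      rw [← hzd]
      calc d = (z * z) * d * (z * z) := by rw [h.sq, one_mul, mul_one]
        _ = _ := by group
    have e' : z * (c * d) * z = c * (c * d) := by
      calc z * (c * d) * z = z * c * d * z := by group
        _ = c * (z * d * z) := by rw [hfix]; group
        _ = c * (c * d) := by rw [hzd]
    rw [e', ← mul_assoc] at e
    exact right_eq_mul.1 e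
  have hc1 := eq_one_of_sq_eq_one h.odd hcR h2
  rw [hc1, one_mul] at hzd
  calc z * d = z * d * (z * z) := by rw [h.sq, mul_one]
    _ = (z * d * z) * z := by group
    _ = d * z := by rw [hzd]

/-- If `R` is abelian it is inverted by `z`. -/
theorem inverted_of_comm (h : MinAct S R z) (hab : ∀ x ∈ R, ∀ y ∈ R, x * y = y * x) {x : G}
    (hx : x ∈ R) : z * x * z = x⁻¹ := by
  let K : Subgroup G :=
    { carrier := {x | x ∈ R ∧ z * x * z = x⁻¹}
      one_mem' := ⟨one_mem R, by rw [mul_one, h.sq, inv_one]⟩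
      inv_mem' := fun {y} hy => ⟨inv_mem hy.1, by
        rw [inv_inv]
        calc z * y⁻¹ * z = (z⁻¹ * y * z⁻¹)⁻¹ := by group
          _ = y := by rw [h.zz, hy.2, inv_inv]⟩
      mul_mem' := fun {p q} hp hq => ⟨mul_mem hp.1 hq.1, by
        calc z * (p * q) * z = z * p * (z * z) * q * z := by rw [h.sq]; group
          _ = (z * p * z) * (z * q * z) := by group
          _ = (p * q)⁻¹ := by
            rw [hp.2, hq.2, mul_inv_rev, hab _ (inv_mem hp.1) _ (inv_mem hq.1)]⟩ }
  have : R ≤ K := by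
    conv_lhs => rw [← h.gen]
    refine (closure_le _).2 ?_
    rintro _ ⟨y, hy, rfl⟩
    refine ⟨?_, ?_⟩
    · rw [show y⁻¹ * z * y * z = y⁻¹ * (z * y * z) by group]
      exact mul_mem (inv_mem hy) (h.zconj_mem hy)
    · rw [mul_inv_rev, mul_inv_rev, mul_inv_rev, h.zz, inv_inv]
      calc z * (y⁻¹ * z * y * z) * z = z * y⁻¹ * z * y * (z * z) := by group
        _ = z * (y⁻¹ * (z * y)) := by rw [h.sq]; group
  exact (this hx).2

end MinAct

end Cfsg.Agent.SEDim42
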