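import Cfsg.Agent.SEDim42.Arith
import Cfsg.Agent.Suz27.Final
import Cfsg.Agent.Suz27.SimpleCase
import Cfsg.Agent.S1131
import Cfsg.Agent.BenderCons37.Basic
import Cfsg.Agent.S1136

/-!
Elements of a split rank one group used for the dimension bounds: a product of two involutions
whose order has a prime divisor forcing `2 log q` dimensions, and a prime forcing `2 log |Q|`.
-/

set_option autoImplicit false

namespace Cfsg.Agent.SEDim42

open Subgroup MulAction RankOne Suz27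
open scoped MatrixGroups

universe u v

variable {G : Type u} {Ω : Type v} [Group G] [Finite G] [MulAction G Ω] {a : Ω} {t : G}
  {Q : Subgroup G}

theorem qOf_subgroupOf {L : Subgroup G} (hQL : Q ≤ L) : qOf (Q.subgroupOf L) = qOf Q :=
  Nat.card_congr
    { toFun := fun x => ⟨(x.1 : G), x.2.1, congrArg Subtype.val x.2.2⟩
      invFun := fun x => ⟨⟨x.1, hQL x.2.1⟩, x.2.1, Subtype.ext x.2.2⟩
      left_inv := fun _ => rfl
      right_inv := fun _ => rfl }

/-- The number of elements of square one in `Q` is one more than the number of inverted elements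
of the two point stabiliser different from the identity. -/
theorem card_inverted_add_one (h : R1 G Ω a t Q) :
    Nat.card (Cfsg.invertedBy (twoStab G a t) t) + 1 = qOf Q := by
  classical
  rw [card_inverted h.setup]
  have e : Cfsg.involutionsIn (stabilizer G a : Set G) ≃
      {x : {g : G // g ∈ Q ∧ g * g = 1} // x ≠ ⟨1, one_mem _, mul_one 1⟩} :=
    { toFun := fun x => ⟨⟨x.1, invol_mem_Q h.setup ⟨x.2.2.1, x.2.2.2⟩ x.2.1, x.2.2.2⟩,
        fun e => x.2.2.1 (congrArg Subtype.val e)⟩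
      invFun := fun x => ⟨x.1.1, h.setup.le x.1.2.1, fun e => x.2 (Subtype.ext e), x.1.2.2⟩
      left_inv := fun _ => rfl
      right_inv := fun _ => rfl }
  rw [Nat.card_congr e, ← Finite.card_option,
    Nat.card_congr (Equiv.optionSubtypeNe _)]
  rfl

/-- For even exponent the set-up is not of Suzuki type. -/
theorem card_ne_sq (h : R1 G Ω a t Q) {e : ℕ} (hq : qOf Q = 2 ^ e) (he : Even e) :
    Nat.card Q ≠ qOf Q ^ 2 := by
  intro hn
  obtain ⟨L, htL, -, -, hQL, hRL, hGL⟩ := exists_gen_subgroup h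
  have hc : Nat.card (Q.subgroupOf L) = Nat.card Q :=
    Nat.card_congr (Subgroup.subgroupOfEquivOfLe hQL).toEquiv
  have hnL : Nat.card (Q.subgroupOf L) = qOf (Q.subgroupOf L) ^ 2 := by
    rw [hc, qOf_subgroupOf hQL, hn]
  have hne : Nat.card (Q.subgroupOf L) ≠ qOf (Q.subgroupOf L) :=
    card_ne_qOf hRL le_rfl hnL
  haveI := Suz27.isSimpleGroup_of_gen hRL hGL
  obtain ⟨-, m, -, hcard⟩ :=
    Suz27.isSuzuki_of_iso (sz_case hRL hGL (Suz27.hasType hRL) hnL (Suz27.not_comm hRL hne))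
  rw [RankOne.card_group hRL.setup, hc, hn, hq, ← pow_mul, ← pow_mul] at hcard
  have hodd : ∀ k, k ≠ 0 → Odd (2 ^ k - 1) ∧ Odd (2 ^ k + 1) := fun k hk => by
    have h2 : Even (2 ^ k) := Nat.even_pow.2 ⟨even_two, hk⟩
    exact ⟨Nat.Even.sub_odd Nat.one_le_two_pow h2 odd_one, h2.add_one⟩
  have hev : Even (2 ^ (e * 2)) := by
    have := h.setup.even_card
    rwa [hn, hq, ← pow_mul] at this
  have h1 : Odd (Nat.card (twoStab L a (⟨t, htL⟩ : L)) * (2 ^ (e * 2) + 1)) :=
    hRL.setup.odd_card.mul hev.add_one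
  have h2 : Odd ((2 ^ ((2 * m + 1) * 2) + 1) * (2 ^ (2 * m + 1) - 1)) :=
    (hodd _ (by omega)).2.mul (hodd _ (by omega)).1
  rw [mul_assoc, mul_assoc] at hcard
  have hpow : ∀ {i j x y : ℕ}, Odd x → Odd y → 2 ^ i * x = 2 ^ j * y → i = j := by
    intro i j x y hx hy hxy
    have h := congrArg (fun n => n.factorization 2) hxy
    simp only [Nat.factorization_mul (pow_ne_zero _ two_ne_zero) hx.pos.ne',
      Nat.factorization_mul (pow_ne_zero _ two_ne_zero) hy.pos.ne', Finsupp.add_apply,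
      Nat.factorization_eq_zero_of_not_dvd (fun h => Nat.not_even_iff_odd.2 hx (even_iff_two_dvd.2 h)),
      Nat.factorization_eq_zero_of_not_dvd (fun h => Nat.not_even_iff_odd.2 hy (even_iff_two_dvd.2 h)),
      Nat.Prime.factorization_pow Nat.prime_two, Finsupp.single_eq_same, add_zero] at h
    exact h
  have := hpow h1 h2 hcard
  obtain ⟨i, rfl⟩ := he
  omega

/-- Two involutions whose product forces twice `log q` dimensions. -/
theorem exists_real (h : R1 G Ω a t Q) :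
    ∃ (e ℓ : ℕ) (u v : G), qOf Q = 2 ^ e ∧ orderOf u = 2 ∧ orderOf v = 2 ∧ ℓ.Prime ∧ ℓ ≠ 2 ∧
      ℓ ∣ orderOf (u * v) ∧ ∀ w, 0 < w → Even w → ℓ ∣ 2 ^ w - 1 → 2 * e ≤ w := by
  haveI := h.faithful
  obtain ⟨e, he, hq⟩ := exists_qOf_eq h (Suz27.hasType h).1
  have ht : orderOf t = 2 := BenderCons37.orderOf_eq_two h.setup.ne_one h.setup.mul_self
  rcases Nat.even_or_odd e with hev | hod
  · have hr : RInv a t Q := (Suz27.hasType h).2.2.2 (card_ne_sq h hq hev)
    obtain ⟨F, iF, iT, iC, -, hFq, ⟨L⟩⟩ := exists_line h hr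
    have hF : Fintype.card F = 2 ^ e := hFq.trans hq
    obtain ⟨ℓ, hℓ, h2, hdvd, hnd, hall⟩ := exists_ppd_double (e := e) (by omega) (by
      rintro rfl
      revert hev
      decide)
    haveI : Fact ℓ.Prime := ⟨hℓ⟩
    have hdvd' : ℓ ∣ Nat.card SL(2, F) := by
      rw [LinearGroup.card_SL_two, Nat.card_eq_fintype_card, hF, ← one_pow 2, Nat.sq_sub_sq]
      exact dvd_mul_of_dvd_right (dvd_mul_of_dvd_left hdvd _) _
    obtain ⟨A, hA⟩ := exists_prime_orderOf_dvd_card' ℓ hdvd'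
    obtain ⟨K, J, hK, hJ, hKJ⟩ := exists_two_involutions hℓ h2 hA (by rwa [hF])
    refine ⟨e, ℓ, L.ι K, L.ι J, hq, ?_, ?_, hℓ, h2, ?_, fun w hw _ h => hall w hw h⟩
    · rw [orderOf_injective L.ι L.ι_inj, hK]
    · rw [orderOf_injective L.ι L.ι_inj, hJ]
    · rw [← map_mul, hKJ, orderOf_injective L.ι L.ι_inj, hA]
  · obtain ⟨ℓ, hℓ, h2, hdvd, hall⟩ := exists_ppd (n := e) (by omega) (by
      rintro rfl
      revert hod
      decide)
    haveI : Fact ℓ.Prime := ⟨hℓ⟩
    obtain ⟨C, hC, -, -⟩ := S1131.result h.setup h.rank2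
    have hCc : Nat.card C + 1 = qOf Q := by
      rw [← card_inverted_add_one h]
      exact congrArg (· + 1) (Nat.card_congr (Equiv.setCongr hC))
    obtain ⟨c, hc⟩ := exists_prime_orderOf_dvd_card' ℓ (show ℓ ∣ Nat.card C by
      rwa [show Nat.card C = 2 ^ e - 1 by omega])
    have hcI : (c : G) ∈ Cfsg.invertedBy (twoStab G a t) t := by
      have := c.2
      rwa [← SetLike.mem_coe, hC] at this
    obtain ⟨hi, hi'⟩ := ((mem_invertedBy_iff h.setup).1 hcI).1
    refine ⟨e, ℓ, t, t * c, hq, ht, BenderCons37.orderOf_eq_two hi hi', hℓ, h2, ?_,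
      fun w hw hwe hd => ?_⟩
    · rw [← mul_assoc, h.setup.mul_self, one_mul, orderOf_coe, hc]
    · have h2w : 2 ∣ w := even_iff_two_dvd.1 hwe
      have hco : Nat.Coprime 2 e := Nat.coprime_two_left.2 hod
      exact Nat.le_of_dvd hw (hco.mul_dvd_of_dvd_of_dvd h2w (hall w hd))

/-- The size of `Q` against a prime divisor of the group order. -/
theorem exists_size (h : R1 G Ω a t Q) :
    ∃ k : ℕ, Nat.card Q = 2 ^ k ∧ (qOf Q = 2 ^ k ∨
      ∃ ℓ : ℕ, ℓ.Prime ∧ ℓ ≠ 2 ∧ ℓ ∣ Nat.card G ∧ ∀ w, 0 < w → ℓ ∣ 2 ^ w - 1 → 2 * k ≤ w) := by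
  haveI : Fact (Nat.Prime 2) := ⟨Nat.prime_two⟩
  obtain ⟨hP, hcard, -⟩ := Suz27.hasType h
  obtain ⟨k, hk⟩ := IsPGroup.iff_card.1 hP
  refine ⟨k, hk, ?_⟩
  rcases eq_or_ne k 3 with rfl | hk3
  · left
    obtain ⟨e, he, hq⟩ := exists_qOf_eq h hP
    rcases hcard with hc | hc | hc <;> rw [hk, hq] at hc
    · rw [hq]; exact hc.symm
    all_goals
      rw [← pow_mul] at hc
      have := Nat.pow_right_injective le_rfl hc
      omega
  · right
    have hk1 : 1 ≤ k := by
      rcases Nat.eq_zero_or_pos k with rfl | hp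
      · have := h.setup.even_card
        rw [hk, pow_zero] at this
        exact absurd this (by decide)
      · exact hp
    obtain ⟨ℓ, hℓ, h2, hdvd, -, hall⟩ := exists_ppd_double hk1 hk3
    refine ⟨ℓ, hℓ, h2, ?_, hall⟩
    rw [RankOne.card_group h.setup, hk]
    exact dvd_mul_of_dvd_right hdvd _

end Cfsg.Agent.SEDim42
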