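import Cfsg.Agent.SEDim42.Linear
import Cfsg.Agent.SEDim42.RankTwo
import Cfsg.Agent.BenderCons37.Split

/-!
The dimension bounds for two-rank at least two.
-/

set_option autoImplicit false

namespace Cfsg.Agent.SEDim42

open Subgroup MulAction Module BenderCons37 Suz27

universe u w

/-- An involution of a quotient by a normal subgroup of odd order lifts to an involution. -/
theorem exists_lift_involution {G : Type*} [Group G] [Finite G] {N : Subgroup G} [N.Normal]
    (hN : Odd (Nat.card N)) {x : G ⧸ N} (hx : orderOf x = 2) :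
    ∃ u : G, orderOf u = 2 ∧ (u : G ⧸ N) = x := by
  haveI : Fact (Nat.Prime 2) := ⟨Nat.prime_two⟩
  obtain ⟨y, rfl⟩ := QuotientGroup.mk_surjective x
  have hyy : y * y ∈ N := by
    rw [← QuotientGroup.eq_one_iff, QuotientGroup.mk_mul, ← pow_two, ← hx, pow_orderOf_eq_one]
  set j := orderOf (y * y) with hj
  have hjodd : Odd j := hN.of_dvd_nat (Subgroup.orderOf_dvd_natCard N hyy)
  have hu : ((y ^ j : G) : G ⧸ N) = (y : G ⧸ N) := by
    rw [QuotientGroup.mk_pow, ← pow_mod_orderOf, hx, Nat.odd_iff.1 hjodd, pow_one]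
  refine ⟨y ^ j, orderOf_eq_prime ?_ (fun e => ?_), hu⟩
  · rw [← pow_mul, mul_comm, pow_mul, pow_two, hj, pow_orderOf_eq_one]
  · rw [e, QuotientGroup.mk_one] at hu
    rw [← hu, orderOf_one] at hx
    norm_num at hx

/-- A non-trivial element of a 2-group has a power of order two. -/
theorem exists_pow_orderOf_two {G : Type*} [Group G] [Finite G] {S : Subgroup G}
    (hS : IsPGroup 2 S) {s : G} (hs : s ∈ S) (h1 : s ≠ 1) : ∃ n : ℕ, orderOf (s ^ n) = 2 := by
  obtain ⟨k, hk⟩ := hS ⟨s, hs⟩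
  obtain ⟨i, -, hi⟩ := (Nat.dvd_prime_pow Nat.prime_two).1
    (orderOf_dvd_of_pow_eq_one (congrArg Subtype.val hk : s ^ 2 ^ k = 1))
  rcases i with _ | i
  · exact absurd (orderOf_eq_one_iff.1 (by rw [hi, pow_zero])) h1
  · exact ⟨2 ^ i, by
      rw [orderOf_pow' _ (pow_ne_zero _ two_ne_zero), hi,
        Nat.gcd_eq_right (pow_dvd_pow 2 i.le_succ), pow_succ,
        Nat.mul_div_cancel_left _ (pow_pos two_pos i)]⟩

/-- The bounds when the two-rank is at least two. -/
theorem rankTwo_bounds {G : Type u} [Group G] [Finite G] (hsp : BenderSplit.{u})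
    {H : Subgroup G} (hH : Cfsg.IsStronglyEmbedded H) (h2 : RankTwo G) (S : Sylow 2 G)
    {V : Type w} [AddCommGroup V] [Module (ZMod 2) V] [Module.Finite (ZMod 2) V]
    (ρ : Representation (ZMod 2) G V) (hρ : Function.Injective ρ) :
    (∀ k : ℕ, Nat.card ↥(S : Subgroup G) = 2 ^ k → 2 * k ≤ finrank (ZMod 2) V) ∧
    ∀ n : ℕ, (∀ z ∈ (S : Subgroup G) ⊓ centralizer ((S : Subgroup G) : Set G), z ^ 2 = 1) →
      Nat.card ↥((S : Subgroup G) ⊓ centralizer ((S : Subgroup G) : Set G)) = 2 ^ n →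
      ∀ s ∈ (S : Subgroup G), s ≠ 1 → n ≤ rk ρ s := by
  classical
  haveI : Fact (Nat.Prime 2) := ⟨Nat.prime_two⟩
  set O := Cfsg.oddCore G with hO
  haveI : O.Normal := by rw [hO]; infer_instance
  have hOodd : Odd (Nat.card O) := oddCore_card_odd
  set π := QuotientGroup.mk' O with hπ
  have hsurj : Function.Surjective π := QuotientGroup.mk'_surjective O
  obtain ⟨Q, hQ⟩ := hsp (G ⧸ O) _ (stronglyEmbedded_map hH h2) (rankTwo_quotient h2) oddCore_quotient
  obtain ⟨t, hR⟩ := exists_r1 (stronglyEmbedded_map hH h2) (rankTwo_quotient h2) oddCore_quotient hQ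
  have hQ2 : IsPGroup 2 Q := (Suz27.hasType hR).1
  have hidx : ¬ 2 ∣ Q.index := by
    have h : Q.index = Nat.card (RankOne.twoStab (G ⧸ O)
        (QuotientGroup.mk 1 : (G ⧸ O) ⧸ H.map π) t) * (Nat.card Q + 1) := by
      refine Nat.eq_of_mul_eq_mul_left (Nat.card_pos (α := Q)) ?_
      rw [Subgroup.card_mul_index, RankOne.card_group hR.setup, mul_assoc]
    rw [h, ← even_iff_two_dvd, Nat.not_even_iff_odd]
    exact hR.setup.odd_card.mul hR.setup.even_card.add_one
  set S' : Sylow 2 (G ⧸ O) := S.mapSurjective hsurj with hS'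
  have hS'coe : (S' : Subgroup (G ⧸ O)) = (S : Subgroup G).map π := rfl
  have hinj : Function.Injective (π.comp (S : Subgroup G).subtype) := by
    rw [injective_iff_map_eq_one]
    intro x hx
    have hxO : (x : G) ∈ O := (QuotientGroup.eq_one_iff _).1 hx
    obtain ⟨k, hk⟩ := S.2 x
    have h1 : orderOf (x : G) ∣ 2 ^ k := orderOf_dvd_of_pow_eq_one (congrArg Subtype.val hk)
    have h3 : orderOf (x : G) ∣ Nat.card O := Subgroup.orderOf_dvd_natCard O hxO
    exact Subtype.ext (orderOf_eq_one_iff.1 (Nat.eq_one_of_dvd_coprimes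
      ((Nat.coprime_two_left.2 hOodd).pow_left k) h1 h3))
  let e1 : ↥(S : Subgroup G) ≃* ↥(S' : Subgroup (G ⧸ O)) :=
    (MonoidHom.ofInjective hinj).trans (MulEquiv.subgroupCongr (by
      rw [MonoidHom.range_comp, Subgroup.range_subtype, hS'coe]))
  let e : ↥(S : Subgroup G) ≃* ↥Q :=
    e1.trans ((S'.equiv (hQ2.toSylow hidx)).trans (MulEquiv.refl _))
  have hq : qOf Q = Nat.card {x : ↥(S : Subgroup G) // x * x = 1} := by
    rw [qOf]
    refine Nat.card_congr
      { toFun := fun x => ⟨e.symm ⟨x.1, x.2.1⟩, by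
          rw [← map_mul, ← map_one e.symm]
          exact congrArg e.symm (Subtype.ext x.2.2)⟩
        invFun := fun x => ⟨(e x.1 : G ⧸ O), (e x.1).2, by
          rw [← Subgroup.coe_mul, ← map_mul, x.2, map_one]; rfl⟩
        left_inv := fun x => Subtype.ext (by simp)
        right_inv := fun x => Subtype.ext (by simp) }
  have hone : ∀ g : G, g ≠ 1 → ρ g ≠ 1 := fun g hg h => hg (hρ (h.trans (map_one ρ).symm))
  -- the real element
  obtain ⟨m, ℓ, u', v', hm, hu', hv', hℓ, hℓ2, hdvd, hall⟩ := exists_real hR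
  obtain ⟨u, hu, rfl⟩ := exists_lift_involution hOodd hu'
  obtain ⟨v, hv, rfl⟩ := exists_lift_involution hOodd hv'
  have hdvd' : ℓ ∣ orderOf (u * v) := hdvd.trans (by
    rw [← QuotientGroup.mk_mul]; exact orderOf_map_dvd π (u * v))
  set g := (u * v) ^ (orderOf (u * v) / ℓ) with hg
  have hgo : orderOf g = ℓ := orderOf_pow_orderOf_div (orderOf_pos _).ne' hdvd'
  have huu : u * u = 1 := by rw [← pow_two, ← hu, pow_orderOf_eq_one]
  have hvv : v * v = 1 := by rw [← pow_two, ← hv, pow_orderOf_eq_one]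
  have hinv : u * g * u = g⁻¹ := by
    have hi : u * (u * v) * u⁻¹ = (u * v)⁻¹ := by
      rw [mul_inv_rev, inv_eq_of_mul_eq_one_right huu, inv_eq_of_mul_eq_one_right hvv,
        ← mul_assoc, huu, one_mul]
    calc u * g * u = (u * (u * v) * u⁻¹) ^ (orderOf (u * v) / ℓ) := by
          rw [conj_pow, inv_eq_of_mul_eq_one_right huu]
      _ = g⁻¹ := by rw [hi, inv_pow]
  have hug : orderOf (u * g) = 2 := by
    refine orderOf_eq_prime ?_ fun e => ?_
    · rw [pow_two, ← mul_assoc, hinv, inv_mul_cancel]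
    · rw [mul_eq_one_iff_eq_inv] at e
      rw [e, orderOf_inv, hgo] at hu
      exact hℓ2 hu
  have hw : 2 * m ≤ rk ρ g := hall _
    (rk_pos ρ (hone g fun e => hℓ.one_lt.ne' (by rw [← hgo, e, orderOf_one])))
    (even_rk_of_inverted ρ (hgo ▸ hℓ.odd_of_ne_two hℓ2) huu hinv)
    (prime_dvd_pow_rk ρ hℓ hℓ2 hgo)
  have hrank : ∀ x : G, orderOf x = 2 → m ≤ rk ρ x := by
    intro x hx
    have h1 := rk_mul_le ρ u (u * g)
    rw [← mul_assoc, huu, one_mul,
      rk_eq_of_isConj ρ (TwoFusionB.isConj_involutions hH hu hx),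
      rk_eq_of_isConj ρ (TwoFusionB.isConj_involutions hH hug hx)] at h1
    omega
  constructor
  · intro k hk
    obtain ⟨k', hk', hsize⟩ := exists_size hR
    have hkk : k' = k := Nat.pow_right_injective le_rfl
      (hk'.symm.trans ((Nat.card_congr e.toEquiv).symm.trans hk))
    subst hkk
    rcases hsize with h | ⟨p, hp, hp2, hpdvd, hpall⟩
    · have : m = k' := Nat.pow_right_injective le_rfl (hm.symm.trans h)
      exact this ▸ le_trans hw (rk_le_finrank ρ g)
    · haveI : Fact p.Prime := ⟨hp⟩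
      obtain ⟨x, hx⟩ := exists_prime_orderOf_dvd_card' (G := G) p
        (hpdvd.trans (Subgroup.card_quotient_dvd_card O))
      exact le_trans (hpall _
        (rk_pos ρ (hone x fun e => hp.one_lt.ne' (by rw [← hx, e, orderOf_one])))
        (prime_dvd_pow_rk ρ hp hp2 hx)) (rk_le_finrank ρ x)
  · intro n hz hn s hs hs1
    obtain ⟨j, hj⟩ := exists_pow_orderOf_two S.2 hs hs1
    refine le_trans ?_ ((hrank _ hj).trans (rk_pow_le ρ s j))
    have hle : 2 ^ n ≤ 2 ^ m := by
      rw [← hn, ← hm, hq]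
      refine Nat.card_le_card_of_injective
        (fun z => ⟨⟨(z : G), z.2.1⟩, Subtype.ext (by simpa [pow_two] using hz _ z.2)⟩) ?_
      intro z z' h
      exact Subtype.ext (congrArg (fun x : {x : ↥(S : Subgroup G) // x * x = 1} => ((x.1 : G))) h)
    exact (Nat.pow_le_pow_iff_right (le_refl 2)).1 hle

end Cfsg.Agent.SEDim42
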