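import Cfsg.Agent.SEDim42.Linear
import Cfsg.Agent.SEDim42.Eigen
import Cfsg.Agent.SEDim42.OddAct
import Cfsg.Agent.SEDim42.TwoCase
import Cfsg.Agent.Bender43.Dichotomy

/-!
The dimension bounds for two-rank one.
-/

set_option autoImplicit false

namespace Cfsg.Agent.SEDim42

open Subgroup MulAction Module BenderCons37 TensorProduct
open scoped commutatorElement

variable {G : Type*} [Group G] [Finite G]

theorem hno_of_not_rankTwo (h2 : ¬ RankTwo G) (x y : G) (hx : orderOf x = 2) (hy : orderOf y = 2)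
    (hxy : Commute x y) : x = y := by
  by_contra hne
  refine h2 ⟨x, y, fun e => ?_, fun e => ?_, hne, ?_, ?_, hxy.eq⟩
  · rw [e, orderOf_one] at hx; norm_num at hx
  · rw [e, orderOf_one] at hy; norm_num at hy
  · rw [← pow_two, ← hx, pow_orderOf_eq_one]
  · rw [← pow_two, ← hy, pow_orderOf_eq_one]

/-- The central involution and a minimal subgroup it acts on non-trivially. -/
theorem exists_rankOne_data {H : Subgroup G} (hH : Cfsg.IsStronglyEmbedded H) (h2 : ¬ RankTwo G)
    (S : Sylow 2 G) :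
    ∃ z : G, ∃ R : Subgroup G, MinAct (S : Subgroup G) R z ∧ orderOf z = 2 ∧
      ∀ a ∈ (S : Subgroup G), orderOf a = 2 → a = z := by
  classical
  haveI : Fact (Nat.Prime 2) := ⟨Nat.prime_two⟩
  have hno := hno_of_not_rankTwo h2
  have hsup := (Bender43.rank_one_case hH hno).2
  obtain ⟨z₀, -, hz₀⟩ := TwoFusionB.exists_inv_mem hH
  have h2G : 2 ∣ Nat.card G := hz₀ ▸ orderOf_dvd_natCard z₀
  obtain ⟨z, hzS, hzc, hz⟩ : ∃ z ∈ (S : Subgroup G),
      (∀ s ∈ (S : Subgroup G), s * z = z * s) ∧ orderOf z = 2 := by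
    have : Nontrivial (S : Subgroup G) := Finite.one_lt_card_iff_nontrivial.mp
      (lt_of_lt_of_le one_lt_two (Nat.le_of_dvd Nat.card_pos (S.dvd_card_of_dvd_card h2G)))
    have := IsPGroup.center_nontrivial S.2
    obtain ⟨k, hk⟩ := IsPGroup.iff_card.mp (S.2.to_subgroup (center (S : Subgroup G)))
    obtain ⟨c, hc⟩ : ∃ c : center (S : Subgroup G), orderOf c = 2 := by
      refine exists_prime_orderOf_dvd_card' 2 ?_
      have h1 := Finite.one_lt_card (α := center (S : Subgroup G))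
      rw [hk] at h1 ⊢
      exact dvd_pow_self 2 fun h => by simp [h] at h1
    exact ⟨_, (c : (S : Subgroup G)).2,
      fun s hs => congrArg Subtype.val (mem_center_iff.mp c.2 ⟨s, hs⟩),
      by rw [Subgroup.orderOf_coe, Subgroup.orderOf_coe, hc]⟩
  have huniq : ∀ a ∈ (S : Subgroup G), orderOf a = 2 → a = z :=
    fun a ha ha2 => hno a z ha2 hz (hzc a ha)
  set O := Cfsg.oddCore G with hO
  haveI : O.Normal := by rw [hO]; infer_instance
  have hOodd : Odd (Nat.card O) := oddCore_card_odd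
  -- `z` does not centralise `O`
  obtain ⟨o, hoO, hoz⟩ : ∃ o ∈ O, z * o ≠ o * z := by
    by_contra hcon
    push Not at hcon
    obtain ⟨p, hp⟩ := TwoFusionB.exists_fix hH hz
    obtain ⟨g, rfl⟩ := QuotientGroup.mk_surjective p
    have hOH : O ≤ H := by
      intro o ho
      set o' := g * o * g⁻¹ with ho'
      have ho'O : o' ∈ O := Subgroup.Normal.conj_mem inferInstance o ho g
      have h : o' • (g : G ⧸ H) = (g : G ⧸ H) := TwoFusionB.fix_unique hH hz
        (by rw [smul_smul, hcon o' ho'O, mul_smul, hp]) hp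
      rw [MulAction.Quotient.smul_mk, smul_eq_mul, show o' * g = g * o by rw [ho']; group,
        QuotientGroup.eq] at h
      rw [show (g * o)⁻¹ * g = o⁻¹ by group] at h
      exact inv_mem_iff.1 h
    exact hH.1 (by rw [← hsup, sup_eq_right.2 hOH])
  -- an invariant Sylow subgroup of `O` not centralised by `z`
  letI : MulDistribMulAction (S : Subgroup G) O :=
    MulDistribMulAction.compHom O ((MulAut.conjNormal (H := O)).comp (S : Subgroup G).subtype)
  have hfix : ∀ r : ℕ, r.Prime → ∃ P : Sylow r O,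
      ∀ s ∈ (S : Subgroup G), ∀ x ∈ (P : Subgroup O).map O.subtype,
        s * x * s⁻¹ ∈ (P : Subgroup O).map O.subtype := by
    intro r hr
    haveI : Fact r.Prime := ⟨hr⟩
    have hodd : ¬ 2 ∣ Nat.card (Sylow r O) := fun h => by
      have P : Sylow r O := default
      exact Nat.not_even_iff_odd.2 hOodd (even_iff_two_dvd.2
        (h.trans ((Sylow.card_dvd_index P).trans (Subgroup.index_dvd_card _))))
    obtain ⟨P, hP⟩ := S.2.nonempty_fixed_point_of_prime_not_dvd_card (Sylow r O) hodd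
    refine ⟨P, fun s hs x hx => ?_⟩
    obtain ⟨y, hy, rfl⟩ := hx
    refine ⟨(⟨s, hs⟩ : (S : Subgroup G)) • y, ?_, rfl⟩
    have e : ((⟨s, hs⟩ : (S : Subgroup G)) • P : Sylow r O) = P := hP _
    have h' := congrArg (fun Q : Sylow r O => (Q : Subgroup O)) e
    simp only [Sylow.pointwise_smul_def] at h'
    rw [SetLike.mem_coe, ← h']
    exact Subgroup.smul_mem_pointwise_smul _ _ _ hy
  obtain ⟨r, hr, P, hPinv, hPnc⟩ : ∃ r : ℕ, r.Prime ∧ ∃ P : Sylow r O,
      (∀ s ∈ (S : Subgroup G), ∀ x ∈ (P : Subgroup O).map O.subtype,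
        s * x * s⁻¹ ∈ (P : Subgroup O).map O.subtype) ∧
      ∃ x ∈ (P : Subgroup O).map O.subtype, z * x ≠ x * z := by
    by_contra hcon
    push Not at hcon
    set C : Subgroup O := (centralizer ({z} : Set G)).subgroupOf O with hC
    have hdvd : Nat.card O ∣ Nat.card C := by
      rw [← Nat.factorization_prime_le_iff_dvd Nat.card_pos.ne' Nat.card_pos.ne']
      intro r hr
      haveI : Fact r.Prime := ⟨hr⟩
      obtain ⟨P, hP⟩ := hfix r hr
      have hle : (P : Subgroup O) ≤ C := fun y hy => by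
        rw [hC, mem_subgroupOf, mem_centralizer_singleton_iff]
        exact (hcon r hr P hP y ⟨y, hy, rfl⟩).symm
      have := Subgroup.card_dvd_of_le hle
      rw [P.card_eq_multiplicity] at this
      exact (hr.pow_dvd_iff_le_factorization Nat.card_pos.ne').1 this
    have htop : C = ⊤ := Subgroup.eq_top_of_le_card C (Nat.le_of_dvd Nat.card_pos hdvd)
    have ho : (⟨o, hoO⟩ : O) ∈ C := htop ▸ mem_top _
    rw [hC, mem_subgroupOf, mem_centralizer_singleton_iff] at ho
    exact hoz ho.symm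
  haveI : Fact r.Prime := ⟨hr⟩
  have hr2 : r ≠ 2 := by
    rintro rfl
    obtain ⟨x, ⟨y, hy, rfl⟩, hne⟩ := hPnc
    obtain ⟨k, hk⟩ := P.2 ⟨y, hy⟩
    have h1 : orderOf y ∣ 2 ^ k := orderOf_dvd_of_pow_eq_one (congrArg Subtype.val hk)
    have h2 : orderOf y ∣ Nat.card O := orderOf_dvd_natCard y
    have : orderOf y = 1 := Nat.eq_one_of_dvd_coprimes
      ((Nat.coprime_two_left.2 hOodd).pow_left k) h1 h2
    rw [orderOf_eq_one_iff.1 this, map_one, mul_one, one_mul] at hne
    exact hne rfl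
  obtain ⟨R, hR⟩ := exists_minAct hr hr2 hzS hzc (by rw [← pow_two, ← hz, pow_orderOf_eq_one])
    (P.2.map O.subtype) hPinv hPnc
  exact ⟨z, R, hR, hz, huniq⟩

theorem sq_le_two_pow_succ : ∀ X : ℕ, X ^ 2 ≤ 2 ^ (X + 1)
  | 0 => by norm_num
  | 1 => by norm_num
  | 2 => by norm_num
  | 3 => by norm_num
  | X + 4 => by
    have ih := sq_le_two_pow_succ (X + 3)
    have e : 2 ^ (X + 4 + 1) = 2 * 2 ^ (X + 3 + 1) := by rw [pow_succ, mul_comm]
    rw [e]
    exact le_trans (by ring_nf; omega : (X + 4) ^ 2 ≤ 2 * (X + 3) ^ 2) (Nat.mul_le_mul_left 2 ih)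

theorem add_le_mul_of_lt_sq {i j X : ℕ} (h : 2 ^ j < X * X) : i + j ≤ 2 ^ i * X := by
  have hX : 0 < X := by rcases Nat.eq_zero_or_pos X with rfl | h' <;> simp_all
  have hj : j ≤ X := by
    by_contra hc
    have h1 := sq_le_two_pow_succ X
    have h2 : 2 ^ (X + 1) ≤ 2 ^ j := Nat.pow_le_pow_right two_pos (by omega)
    rw [pow_two] at h1
    omega
  have h1 : i + 1 ≤ 2 ^ i := Nat.succ_le_of_lt i.lt_two_pow_self
  calc i + j ≤ i * X + 1 * X := by
        have : i ≤ i * X := Nat.le_mul_of_pos_right i hX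
        omega
    _ = (i + 1) * X := by ring
    _ ≤ 2 ^ i * X := Nat.mul_le_mul_right X h1

theorem two_mul_le_two_pow (k : ℕ) : 2 * k ≤ 2 ^ k := by
  rcases k with _ | k
  · simp
  · rw [pow_succ]
    have := k.lt_two_pow_self
    omega

variable {V : Type*} [AddCommGroup V] [Module (ZMod 2) V] [Module.Finite (ZMod 2) V]
  {ρ : Representation (ZMod 2) G V}

theorem conj_mem_iff {S R : Subgroup G} (hi : Inv S R) {s : G} (hs : s ∈ S) (g : G) :
    g ∈ R ↔ s⁻¹ * g * s ∈ R := by
  constructor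
  · intro h
    have := hi s⁻¹ (inv_mem hs) g h
    rwa [inv_inv] at this
  · intro h
    have := hi s hs _ h
    rwa [show s * (s⁻¹ * g * s) * s⁻¹ = g by group] at this

/-- The abelian case: `|S| ≤ dim V`. -/
theorem card_le_of_comm (hρ : Function.Injective ρ) {S R : Subgroup G} {z : G}
    (h : MinAct S R z) (hz : z ≠ 1) (huniq : ∀ a ∈ S, orderOf a = 2 → a = z)
    (hS : IsPGroup 2 S) (hab : ∀ x ∈ R, ∀ y ∈ R, x * y = y * x) :
    Nat.card S ≤ finrank (ZMod 2) V := by
  obtain ⟨x, hx, hne⟩ := h.nc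
  obtain ⟨c, hc, hcx⟩ := exists_char (ρ := ρ) hρ hab hx
    (fun e => hne (by rw [e, mul_one, one_mul]))
    (h.odd.of_dvd_nat (Subgroup.orderOf_dvd_natCard R hx))
  have key := mul_card_le_finrank (fam ρ R) (β := S) (φ := fun s => chConj (s : G) c) ?_ (n := 1) ?_
  · rwa [mul_one, finrank_bc] at key
  · intro s t hst
    by_contra hne'
    set u : G := (s : G)⁻¹ * t with hu
    have hu1 : u ≠ 1 := fun e => hne' (Subtype.ext (inv_mul_eq_one.1 e))
    have huS : u ∈ S := mul_mem (inv_mem s.2) t.2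
    have hfix : ∀ g, c (u * g * u⁻¹) = c g := fun g => by
      have h' := congrFun hst ((t : G) * g * (t : G)⁻¹)
      simp only [chConj] at h'
      rw [show (t : G)⁻¹ * ((t : G) * g * (t : G)⁻¹) * t = g by group] at h'
      rw [← h', hu]
      congr 1
      group
    have hpow : ∀ n : ℕ, ∀ g, c (u ^ n * g * (u ^ n)⁻¹) = c g := by
      intro n
      induction n with
      | zero => intro g; simp
      | succ n ih =>
        intro g
        rw [show u ^ (n + 1) * g * (u ^ (n + 1))⁻¹ = u * (u ^ n * g * (u ^ n)⁻¹) * u⁻¹ by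
          rw [pow_succ', mul_inv_rev]; group, hfix, ih]
    obtain ⟨n, hn⟩ := exists_pow_orderOf_two hS huS hu1
    have hzn : u ^ n = z := huniq _ (pow_mem huS n) hn
    have h1 := hpow n x
    rw [hzn, h.zz, h.inverted_of_comm hab hx, char_inv hc hx] at h1
    refine hcx (eq_one_of_sq_KK ?_)
    have h0 : c x ≠ 0 := fun e => by
      have := char_mul hc hx (inv_mem hx)
      rw [mul_inv_cancel, char_one hc, e, zero_mul] at this
      exact one_ne_zero this
    rw [pow_two]
    conv_lhs => arg 1; rw [← h1]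
    exact inv_mul_cancel₀ h0
  · intro s
    exact le_trans (Submodule.one_le_finrank_iff.2 hc)
      (edim_le_chConj (conj_mem_iff h.inv s.2) c)

/-- The non-abelian case. -/
theorem bound_of_not_comm (hρ : Function.Injective ρ) {S R : Subgroup G} {z : G}
    (h : MinAct S R z) (hz : z ≠ 1) (huniq : ∀ a ∈ S, orderOf a = 2 → a = z)
    (hS : IsPGroup 2 S) (hab : ∃ x ∈ R, ∃ y ∈ R, x * y ≠ y * x) {k : ℕ}
    (hk : Nat.card S = 2 ^ k) : 2 * k ≤ finrank (ZMod 2) V := by
  classical
  haveI : Fact (Nat.Prime 2) := ⟨Nat.prime_two⟩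
  obtain ⟨x₀, hx₀, y₀, hy₀, hne₀⟩ := hab
  set C : Subgroup G := R ⊓ centralizer ({z} : Set G) with hCdef
  have hC : ∀ g, g ∈ C ↔ g ∈ R ∧ z * g = g * z := fun g => by
    rw [hCdef, mem_inf, mem_centralizer_singleton_iff]
    exact ⟨fun h => ⟨h.1, h.2.symm⟩, fun h => ⟨h.1, h.2.symm⟩⟩
  have hbr : ∀ {x y : G}, x ∈ R → y ∈ R → ⁅x, y⁆ ∈ C := fun {x y} hx hy => (hC _).2
    ⟨by rw [commutatorElement_def]; exact mul_mem (mul_mem (mul_mem hx hy) (inv_mem hx)) (inv_mem hy),
      h.comm_mem x hx y hy⟩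
  have hcen : ∀ {g y : G}, g ∈ C → y ∈ R → y * g = g * y := fun {g y} hg hy =>
    h.fixed_central ((hC g).1 hg).1 ((hC g).1 hg).2 hy
  have hCinv : Inv S C := by
    intro s hs g hg
    obtain ⟨hgR, hgz⟩ := (hC g).1 hg
    refine (hC _).2 ⟨h.inv s hs g hgR, ?_⟩
    have h1 := h.central s hs
    have h2 := h.central s⁻¹ (inv_mem hs)
    calc z * (s * g * s⁻¹) = (z * s) * g * s⁻¹ := by group
      _ = s * (z * g) * s⁻¹ := by rw [← h1]; group
      _ = s * g * (z * s⁻¹) := by rw [hgz]; group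
      _ = s * g * s⁻¹ * z := by rw [← h2]; group
  obtain ⟨c, hc, hc0⟩ := exists_char (ρ := ρ) hρ
    (fun x hx y hy => hcen hy ((hC x).1 hx).1) (hbr hx₀ hy₀)
    (fun e => hne₀ (commutatorElement_eq_one_iff_mul_comm.1 e))
    (h.odd.of_dvd_nat (Subgroup.orderOf_dvd_natCard R ((hC _).1 (hbr hx₀ hy₀)).1))
  have hcne : ∀ {g : G}, g ∈ C → c g ≠ 0 := fun {g} hg e => by
    have := char_mul hc hg (inv_mem hg)
    rw [mul_inv_cancel, char_one hc, e, zero_mul] at this
    exact one_ne_zero this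
  have hmul_left : ∀ {a b y : G}, a ∈ R → b ∈ R → y ∈ R →
      c ⁅a * b, y⁆ = c ⁅a, y⁆ * c ⁅b, y⁆ := fun {a b y} ha hb hy => by
    rw [show ⁅a * b, y⁆ = (a * ⁅b, y⁆ * a⁻¹) * ⁅a, y⁆ by
      simp only [commutatorElement_def]; group, hcen (hbr hb hy) ha, mul_inv_cancel_right,
      char_mul hc (hbr hb hy) (hbr ha hy), mul_comm]
  have hanti : ∀ {a b : G}, a ∈ R → b ∈ R → c ⁅a, b⁆ = (c ⁅b, a⁆)⁻¹ := fun {a b} ha hb => by
    rw [← commutatorElement_inv b a, char_inv hc (hbr hb ha)]
  let D : Subgroup G :=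
    { carrier := {x | x ∈ R ∧ ∀ y ∈ R, c ⁅x, y⁆ = 1}
      one_mem' := ⟨one_mem R, fun y _ => by rw [commutatorElement_one_left, char_one hc]⟩
      mul_mem' := fun {a b} ha hb => ⟨mul_mem ha.1 hb.1, fun y hy => by
        rw [hmul_left ha.1 hb.1 hy, ha.2 y hy, hb.2 y hy, mul_one]⟩
      inv_mem' := fun {a} ha => ⟨inv_mem ha.1, fun y hy => by
        have h1 := hmul_left (inv_mem ha.1) ha.1 hy
        rw [inv_mul_cancel, commutatorElement_one_left, char_one hc, ha.2 y hy, mul_one] at h1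
        exact h1.symm⟩ }
  have hD : ∀ x, x ∈ D ↔ x ∈ R ∧ ∀ y ∈ R, c ⁅x, y⁆ = 1 := fun x => Iff.rfl
  have hCD : ∀ {g}, g ∈ C → g ∈ D := fun {g} hg => (hD g).2 ⟨((hC g).1 hg).1, fun y hy => by
    rw [commutatorElement_eq_one_iff_mul_comm.2 (hcen hg hy).symm, char_one hc]⟩
  have hx₀D : x₀ ∉ D := fun hx => hc0 (((hD x₀).1 hx).2 y₀ hy₀)
  set D' : Subgroup R := D.subgroupOf R with hD'
  set X := edim ρ C c with hX
  -- the index of `D` is at most `X * X`
  have hNX : Nat.card (R ⧸ D') ≤ X * X := by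
    set E := eig (fam ρ C) c with hE
    have hpres : ∀ x : R, ∀ w ∈ E, bc ρ (x : G) w ∈ E := by
      intro x w hw g
      by_cases hg : g ∈ C
      · rw [fam_of_mem ρ hg, ← Module.End.mul_apply, ← map_mul, ← hcen hg x.2, map_mul,
          Module.End.mul_apply, apply_of_mem_eig hw hg, map_smul]
      · rw [fam_of_notMem ρ hg, Module.End.one_apply, char_notMem hc hg, one_smul]
    let φ : R ⧸ D' → R → KK := fun q y => c ⁅(y : G), (q.out : G)⁆
    have hinj : Function.Injective φ := by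
      intro q q' hq
      refine (q.out_eq').symm.trans ((QuotientGroup.eq.2 ?_).trans q'.out_eq')
      refine mem_subgroupOf.2 ((hD _).2 ?_)
      refine ⟨((q.out)⁻¹ * q'.out).2, fun y hy => ?_⟩
      have e := congrFun hq ⟨y, hy⟩
      simp only [φ] at e
      have hu : ((q.out : G)⁻¹) ∈ R := inv_mem q.out.2
      rw [Subgroup.coe_mul, Subgroup.coe_inv, hmul_left hu q'.out.2 hy]
      have h1 := hmul_left hu q.out.2 hy
      rw [inv_mul_cancel, commutatorElement_one_left, char_one hc] at h1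
      rw [hanti q'.out.2 hy, ← e, ← hanti q.out.2 hy, ← h1]
    refine card_le_finrank_sq ((bc ρ).comp R.subtype) hc hpres (fun q : R ⧸ D' => q.out) hinj ?_
    intro q y w hw
    show bc ρ ((y * q.out * y⁻¹ : R) : G) w = c ⁅(y : G), (q.out : G)⁆ • bc ρ (q.out : G) w
    rw [show ((y * q.out * y⁻¹ : R) : G) = ⁅(y : G), (q.out : G)⁆ * (q.out : G) by
      simp only [Subgroup.coe_mul, Subgroup.coe_inv, commutatorElement_def]; group,
      map_mul, Module.End.mul_apply]
    exact apply_of_mem_eig (hpres q.out w hw) (hbr y.2 q.out.2)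
  -- the stabiliser of `D`
  let T : Subgroup S :=
    { carrier := {s | ∀ x, (s : G) * x * (s : G)⁻¹ ∈ D ↔ x ∈ D}
      one_mem' := fun x => by simp
      mul_mem' := fun {a b} ha hb x => by
        rw [Subgroup.coe_mul, show (a : G) * b * x * ((a : G) * b)⁻¹ =
          a * (b * x * (b : G)⁻¹) * (a : G)⁻¹ by group, ha, hb]
      inv_mem' := fun {a} ha x => by
        rw [← ha, Subgroup.coe_inv]
        group }
  have hTN : Nat.card T + 1 ≤ Nat.card (R ⧸ D') := by
    let f : Option T → R ⧸ D' := fun o => o.elim (QuotientGroup.mk 1) fun t =>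
      QuotientGroup.mk ⟨((t : S) : G) * x₀ * ((t : S) : G)⁻¹, h.inv _ (t : S).2 x₀ hx₀⟩
    have hnone : ∀ t : T, f (some t) ≠ f none := by
      intro t e
      simp only [f, Option.elim] at e
      rw [QuotientGroup.eq, hD', mem_subgroupOf] at e
      simp only [Subgroup.coe_mul, Subgroup.coe_inv, OneMemClass.coe_one, mul_one, inv_mem_iff] at e
      exact hx₀D ((t.2 x₀).1 e)
    have hf : Function.Injective f := by
      rintro (_ | t) (_ | t') e
      · rfl
      · exact absurd e.symm (hnone t')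
      · exact absurd e (hnone t)
      · simp only [f, Option.elim] at e
        rw [QuotientGroup.eq, hD', mem_subgroupOf] at e
        simp only [Subgroup.coe_mul, Subgroup.coe_inv] at e
        by_contra hne
        set u : G := ((t : S) : G)⁻¹ * ((t' : S) : G) with hu
        have huS : u ∈ S := mul_mem (inv_mem (t : S).2) (t' : S).2
        have hu1 : u ≠ 1 := fun e' => hne (by
          rw [Subtype.ext (Subtype.ext (inv_mul_eq_one.1 e'))])
        have huT : ∀ x, u * x * u⁻¹ ∈ D ↔ x ∈ D := (t⁻¹ * t').2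
        have hbase : x₀⁻¹ * (u * x₀ * u⁻¹) ∈ D := by
          refine ((t : T).2 _).1 ?_
          convert e using 1
          rw [hu]; group
        have hpow : ∀ n : ℕ, x₀⁻¹ * (u ^ n * x₀ * (u ^ n)⁻¹) ∈ D := by
          intro n
          induction n with
          | zero => simp
          | succ n ih =>
            rw [show x₀⁻¹ * (u ^ (n + 1) * x₀ * (u ^ (n + 1))⁻¹) =
              x₀⁻¹ * (u * x₀ * u⁻¹) * (u * (x₀⁻¹ * (u ^ n * x₀ * (u ^ n)⁻¹)) * u⁻¹) by
              rw [pow_succ', mul_inv_rev]; group]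
            exact mul_mem hbase ((huT _).2 ih)
        obtain ⟨n, hn⟩ := exists_pow_orderOf_two hS huS hu1
        have ha := hpow n
        rw [huniq _ (pow_mem huS n) hn, h.zz] at ha
        have hb : z * x₀ * z * x₀ ∈ D := hCD ((hC _).2
          ⟨mul_mem (h.zconj_mem hx₀) hx₀, h.fixed_mul hx₀⟩)
        set a := x₀⁻¹ * (z * x₀ * z) with had
        have hsq : x₀ * x₀ ∈ D := by
          have hca : x₀ * a * x₀⁻¹ ∈ D := by
            have h1 : ⁅x₀, a⁆ * a ∈ D := mul_mem (hCD (hbr hx₀ ((hD a).1 ha).1)) ha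
            convert h1 using 1
            rw [commutatorElement_def]; group
          have h2 : (x₀ * a * x₀⁻¹)⁻¹ * (z * x₀ * z * x₀) ∈ D := mul_mem (inv_mem hca) hb
          convert h2 using 1
          rw [had]; group
        obtain ⟨m, hm⟩ := h.odd.of_dvd_nat (Subgroup.orderOf_dvd_natCard R hx₀)
        refine hx₀D ?_
        have : x₀ = (x₀ * x₀) ^ (m + 1) := by
          rw [← pow_two, ← pow_mul, show 2 * (m + 1) = orderOf x₀ + 1 by omega, pow_succ,
            pow_orderOf_eq_one, one_mul]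
        rw [this]
        exact pow_mem hsq _
    have := Nat.card_le_card_of_injective f hf
    rwa [Finite.card_option] at this
  -- counting characters
  have hdvdk : ∀ n, n ∣ Nat.card S → ∃ i, n = 2 ^ i := fun n hn => by
    rw [hk] at hn
    obtain ⟨i, -, hi⟩ := (Nat.dvd_prime_pow Nat.prime_two).1 hn
    exact ⟨i, hi⟩
  obtain ⟨i, hi⟩ := hdvdk (Nat.card (S ⧸ T)) (Subgroup.card_quotient_dvd_card T)
  obtain ⟨j, hj⟩ := hdvdk (Nat.card T) (Subgroup.card_subgroup_dvd_card T)
  have hij : k = i + j := by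
    have := Subgroup.card_eq_card_quotient_mul_card_subgroup T
    rw [hk, hi, hj, ← pow_add] at this
    exact Nat.pow_right_injective le_rfl this
  let ψ : (S ⧸ T) × Bool → G → KK := fun p =>
    if p.2 then chSq (chConj ((p.1.out : S) : G) c) else chConj ((p.1.out : S) : G) c
  have hrad : ∀ p : (S ⧸ T) × Bool, ∀ x ∈ R, ((∀ y ∈ R, ψ p ⁅x, y⁆ = 1) ↔
      ((p.1.out : S) : G)⁻¹ * x * ((p.1.out : S) : G) ∈ D) := by
    intro p x hx
    set s : G := ((p.1.out : S) : G) with hs
    have hsS : s ∈ S := (p.1.out : S).2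
    have e : ∀ y, chConj s c ⁅x, y⁆ = c ⁅s⁻¹ * x * s, s⁻¹ * y * s⁆ := fun y => by
      rw [chConj, commutatorElement_def, commutatorElement_def]
      congr 1
      group
    have hiff : ∀ y, ψ p ⁅x, y⁆ = 1 ↔ c ⁅s⁻¹ * x * s, s⁻¹ * y * s⁆ = 1 := fun y => by
      rw [← e]
      rcases hb : p.2 with _ | _
      · simp [ψ, hb, hs]
      · simp only [ψ, hb, if_true, chSq, ← hs]
        exact ⟨eq_one_of_sq_KK, fun h => by rw [h, one_pow]⟩
    rw [hD]
    refine ⟨fun hh => ⟨(conj_mem_iff h.inv hsS x).1 hx, fun y hy => ?_⟩, fun hh y hy =>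
      (hiff y).2 (hh.2 _ ((conj_mem_iff h.inv hsS y).1 hy))⟩
    have := (hiff (s * y * s⁻¹)).1 (hh _ (h.inv s hsS y hy))
    rwa [show s⁻¹ * (s * y * s⁻¹) * s = y by group] at this
  have hψ : Function.Injective ψ := by
    rintro ⟨q, b⟩ ⟨q', b'⟩ e
    set s : G := ((q.out : S) : G) with hs
    set s' : G := ((q'.out : S) : G) with hs'
    have hsS : s ∈ S := (q.out : S).2
    have hsS' : s' ∈ S := (q'.out : S).2
    have hDR : ∀ {x}, x ∈ D → x ∈ R := fun hx => ((hD _).1 hx).1
    have heq : ∀ x ∈ R, s⁻¹ * x * s ∈ D ↔ s'⁻¹ * x * s' ∈ D := fun x hx => by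
      rw [← hrad (q, b) x hx, ← hrad (q', b') x hx, e]
    have hq : q = q' := by
      rw [← q.out_eq', ← q'.out_eq', QuotientGroup.eq]
      intro x
      show ((q.out : S) : G)⁻¹ * s' * x * (((q.out : S) : G)⁻¹ * s')⁻¹ ∈ D ↔ x ∈ D
      rw [← hs]
      have e1 : s⁻¹ * s' * x * (s⁻¹ * s')⁻¹ = s⁻¹ * (s' * x * s'⁻¹) * s := by group
      have e2 : s'⁻¹ * (s' * x * s'⁻¹) * s' = x := by group
      constructor
      · intro hx
        rw [e1] at hx
        have hR' : s' * x * s'⁻¹ ∈ R := (conj_mem_iff h.inv hsS _).2 (hDR hx)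
        have := (heq _ hR').1 hx
        rwa [e2] at this
      · intro hx
        rw [e1]
        refine (heq _ (h.inv s' hsS' x (hDR hx))).2 ?_
        rwa [e2]
    subst hq
    refine Prod.ext rfl ?_
    have hsq : ψ (q, true) ≠ ψ (q, false) := by
      intro e'
      have h' := congrFun e' (s * ⁅x₀, y₀⁆ * s⁻¹)
      simp only [ψ, if_true, Bool.false_eq_true, if_false, chSq, chConj, ← hs] at h'
      rw [show s⁻¹ * (s * ⁅x₀, y₀⁆ * s⁻¹) * s = ⁅x₀, y₀⁆ by group, pow_two] at h'
      exact hc0 ((mul_eq_right₀ (hcne (hbr hx₀ hy₀))).1 h')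
    rcases b with _ | _ <;> rcases b' with _ | _ <;>
      first | rfl | exact absurd e hsq | exact absurd e.symm hsq
  have hn : ∀ p, X ≤ edim ρ C (ψ p) := by
    intro p
    have h1 : X ≤ edim ρ C (chConj ((p.1.out : S) : G) c) :=
      edim_le_chConj (conj_mem_iff hCinv (p.1.out : S).2) c
    rcases hb : p.2 with _ | _
    · simpa [ψ, hb] using h1
    · simpa [ψ, hb] using h1.trans (edim_le_chSq _)
  have hfin := mul_card_le_finrank (fam ρ C) hψ hn
  rw [finrank_bc, Nat.card_prod, hi, Nat.card_eq_fintype_card (α := Bool), Fintype.card_bool] at hfin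
  have hlt : 2 ^ j < X * X := by rw [← hj]; omega
  have := add_le_mul_of_lt_sq (i := i) hlt
  rw [hij]
  linarith

/-- The bounds when the two-rank is one. -/
theorem rankOne_bounds {H : Subgroup G} (hH : Cfsg.IsStronglyEmbedded H) (h2 : ¬ RankTwo G)
    (S : Sylow 2 G) (ρ : Representation (ZMod 2) G V) (hρ : Function.Injective ρ) :
    (∀ k : ℕ, Nat.card ↥(S : Subgroup G) = 2 ^ k → 2 * k ≤ finrank (ZMod 2) V) ∧
    ∀ n : ℕ, (∀ z ∈ (S : Subgroup G) ⊓ centralizer ((S : Subgroup G) : Set G), z ^ 2 = 1) →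
      Nat.card ↥((S : Subgroup G) ⊓ centralizer ((S : Subgroup G) : Set G)) = 2 ^ n →
      ∀ s ∈ (S : Subgroup G), s ≠ 1 → n ≤ rk ρ s := by
  classical
  haveI : Fact (Nat.Prime 2) := ⟨Nat.prime_two⟩
  obtain ⟨z, R, hR, hz, huniq⟩ := exists_rankOne_data hH h2 S
  have hz1 : z ≠ 1 := fun e => by rw [e, orderOf_one] at hz; norm_num at hz
  constructor
  · intro k hk
    by_cases hab : ∀ x ∈ R, ∀ y ∈ R, x * y = y * x
    · have h := card_le_of_comm (ρ := ρ) hρ hR hz1 huniq S.2 hab
      rw [hk] at h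
      exact le_trans (two_mul_le_two_pow k) h
    · push Not at hab
      exact bound_of_not_comm (ρ := ρ) hρ hR hz1 huniq S.2 hab hk
  · intro n he hn s _ hs1
    set Z := (S : Subgroup G) ⊓ centralizer ((S : Subgroup G) : Set G)
    have hle : Nat.card Z ≤ 2 := by
      have hz' : ∀ a : Z, (a : G) = 1 ∨ (a : G) = z := fun a => by
        rcases eq_or_ne (a : G) 1 with h1 | h1
        · exact Or.inl h1
        · exact Or.inr (huniq _ (mem_inf.1 a.2).1 (orderOf_eq_prime (he _ a.2) h1))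
      have hinj : Function.Injective fun a : Z => decide ((a : G) = 1) := by
        intro a b hab
        rcases hz' a with ha | ha <;> rcases hz' b with hb | hb <;>
          simp [ha, hb, hz1] at hab ⊢ <;> exact Subtype.ext (ha.trans hb.symm)
      simpa [Nat.card_eq_fintype_card (α := Bool)] using Nat.card_le_card_of_injective _ hinj
    rw [hn] at hle
    have hn1 : n ≤ 1 := (Nat.pow_le_pow_iff_right one_lt_two).1 (by simpa using hle)
    have hs' : ρ s ≠ 1 := fun e => hs1 (hρ (by rw [e, map_one]))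
    have := rk_pos ρ hs'
    omega

end Cfsg.Agent.SEDim42
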